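import Mathlib

/-!
# NO-3S, `TwoOne` / `CompP`, `k ≥ 2`, `D_x > I`: section 4 of bb OMEGA #19126 (pure part)

`H` acts on the elementary abelian 2-group `M`; `l` = `λ`, `A t` = `A_t`, `M1` = the subspace `M_1` of section 3.

* `Proj A M1 l` : the outcome of section 3: `A t` (`t ∈ M1#`) acts on `M1` as `1 + f ⊗ t`, faithfully, moves every
  other vector of `M1#`; `M1` is invariant under `H_l`; `A l` induces all `1 + f ⊗ l`;
* `Proj.shape`, `Proj.exists_split` : (4.1) an element `b` which fixes `l` and centralises `A l` is `a * k` with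
  `a ∈ A l`, `k` trivial on `M1`;
* `Proj.cent` : such a `k` centralises every `A t`, `t ∈ M1#`;
* `Proj.fix_all` : (4.3) if `k` centralises `[M, A l]` it centralises `[M, A t]` for all `t ∈ M1#`;
* `Proj.false_of` : (4.4) no `b` which fixes `l`, centralises `A l` and `I`, has `[m, b] ∉ I` for all `m ∉ N`, `N` a proper
  subgroup over the kernel of `α`.
-/

set_option autoImplicit false

namespace Cfsg.Agent.Omega.NO3S.TwoOne.SG4

variable {M H : Type*} [AddCommGroup M] [Group H] [DistribMulAction H M]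

/-- the outcome of section 3 -/
structure Proj (A : M → Subgroup H) (M1 : AddSubgroup M) (l : M) : Prop where
  two : ∀ m : M, m + m = 0
  mem : l ∈ M1
  ne : l ≠ 0
  sh : ∀ {t : M}, t ∈ M1 → t ≠ 0 → ∀ {a : H}, a ∈ A t → ∀ {m : M}, m ∈ M1 → a • m = m ∨ a • m = m + t
  fa : ∀ {t : M}, t ∈ M1 → t ≠ 0 → ∀ {a : H}, a ∈ A t → (∀ m ∈ M1, a • m = m) → a = 1
  hy : ∀ {t u : M}, t ∈ M1 → t ≠ 0 → u ∈ M1 → u ≠ 0 → u ≠ t → ∃ a ∈ A t, a • u = u + t
  conj : ∀ {t : M}, t ∈ M1 → t ≠ 0 → ∀ (g : H) {a : H}, a ∈ A t → g * a * g⁻¹ ∈ A (g • t)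
  st : ∀ {g : H}, g • l = l → ∀ {m : M}, m ∈ M1 → g • m ∈ M1
  all : ∀ {g : H}, (∀ m ∈ M1, g • m = m ∨ g • m = m + l) → g • l = l → ∃ a ∈ A l, ∀ m ∈ M1, a • m = g • m

namespace Proj

variable {A : M → Subgroup H} {M1 : AddSubgroup M} {l : M}

section

variable (P : Proj A M1 l)
include P

theorem self_add (u v : M) : u + (u + v) = v := by rw [← add_assoc, P.two, zero_add]

theorem fix_self {t : M} (ht : t ∈ M1) (ht0 : t ≠ 0) {a : H} (ha : a ∈ A t) : a • t = t := by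
  rcases P.sh ht ht0 ha ht with h | h
  · exact h
  · rw [P.two] at h
    exact absurd ((smul_eq_zero_iff_eq a).mp h) ht0

theorem map {t : M} (ht : t ∈ M1) (ht0 : t ≠ 0) {a : H} (ha : a ∈ A t) {m : M} (hm : m ∈ M1) : a • m ∈ M1 := by
  rcases P.sh ht ht0 ha hm with h | h
  · rw [h]; exact hm
  · rw [h]; exact add_mem hm ht

/-- the vectors of `M1` centralised by `A l` -/
theorem cent_l {m : M} (hm : m ∈ M1) (h : ∀ a ∈ A l, a • m = m) : m = 0 ∨ m = l := by
  by_contra hc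
  push Not at hc
  obtain ⟨a, ha, e⟩ := P.hy P.mem P.ne hm hc.1 hc.2
  rw [h a ha] at e
  exact P.ne (left_eq_add.mp e)

/-- an element which centralises `A l` and fixes `l` acts on `M1` as `1 + f ⊗ l` -/
theorem shape {b : H} (hl : b • l = l) (hc : ∀ a ∈ A l, b * a = a * b) {m : M} (hm : m ∈ M1) :
    b • m = m ∨ b • m = m + l := by
  have h1 : b • m + m ∈ M1 := add_mem (P.st hl hm) hm
  have h2 : ∀ a ∈ A l, a • (b • m + m) = b • m + m := by
    intro a ha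
    rw [smul_add, smul_smul, ← hc a ha, mul_smul]
    rcases P.sh P.mem P.ne ha hm with h | h
    · rw [h]
    · rw [h, smul_add, hl]
      have : b • m + l + (m + l) = b • m + m + (l + l) := by abel
      rw [this, P.two, add_zero]
  rcases P.cent_l h1 h2 with h | h
  · left
    have := congrArg (fun u => u + m) h
    simp only [zero_add] at this
    rwa [add_assoc, P.two, add_zero] at this
  · right
    have h5 : b • m + m + m = l + m := by rw [h]
    rw [add_assoc, P.two, add_zero] at h5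
    rw [h5, add_comm]

/-- (4.1) -/
theorem exists_split {b : H} (hl : b • l = l) (hc : ∀ a ∈ A l, b * a = a * b) :
    ∃ a ∈ A l, ∀ m ∈ M1, (a⁻¹ * b) • m = m := by
  obtain ⟨a, ha, h⟩ := P.all (fun m hm => P.shape hl hc hm) hl
  refine ⟨a, ha, fun m hm => ?_⟩
  rw [mul_smul, ← h m hm, inv_smul_smul]

/-- (4.1): the kernel on `M1` centralises every `A t` -/
theorem cent {k : H} (hk : ∀ m ∈ M1, k • m = m) {t : M} (ht : t ∈ M1) (ht0 : t ≠ 0) {a : H} (ha : a ∈ A t) :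
    k * a = a * k := by
  have hk' : ∀ m ∈ M1, k⁻¹ • m = m := fun m hm => by
    conv_lhs => rw [← hk m hm]
    exact inv_smul_smul _ _
  have h1 : k * a * k⁻¹ ∈ A t := by
    have := P.conj ht ht0 k ha
    rwa [hk t ht] at this
  have h2 : k * a * k⁻¹ * a⁻¹ ∈ A t := mul_mem h1 (inv_mem ha)
  have h3 : k * a * k⁻¹ * a⁻¹ = 1 := by
    refine P.fa ht ht0 h2 fun m hm => ?_
    have h4 : a⁻¹ • m ∈ M1 := P.map ht ht0 (inv_mem ha) hm
    rw [mul_smul, mul_smul, mul_smul, hk' _ h4, smul_inv_smul, hk m hm]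
  have h5 : k * a * k⁻¹ = a := by
    calc k * a * k⁻¹ = (k * a * k⁻¹ * a⁻¹) * a := by group
      _ = a := by rw [h3, one_mul]
  calc k * a = (k * a * k⁻¹) * k := by group
    _ = a * k := by rw [h5]

/-- some product of elements of `A t`, `A l` maps `l` to `t` -/
theorem exists_to {t : M} (ht : t ∈ M1) (ht0 : t ≠ 0) : ∃ g : H, g • l = t ∧
    ∀ k : H, (∀ m ∈ M1, k • m = m) → k * g = g * k := by
  by_cases h : t = l
  · exact ⟨1, by rw [one_smul, h], fun k _ => by rw [mul_one, one_mul]⟩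
  · obtain ⟨a, ha, e1⟩ := P.hy ht ht0 P.mem P.ne (Ne.symm h)
    obtain ⟨c, hc, e2⟩ := P.hy P.mem P.ne ht ht0 h
    refine ⟨c * a, ?_, fun k hk => ?_⟩
    · rw [mul_smul, e1, smul_add, e2, P.fix_self P.mem P.ne hc, add_comm t l, P.self_add]
    · rw [← mul_assoc, P.cent hk P.mem P.ne hc, mul_assoc, P.cent hk ht ht0 ha, mul_assoc]

/-- (4.3): if `k` is trivial on `M1` and centralises `[M, A l]`, it centralises `[M, A t]` -/
theorem fix_all {k : H} (hk : ∀ m ∈ M1, k • m = m) (hR : ∀ a ∈ A l, ∀ m : M, k • (a • m + m) = a • m + m)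
    {t : M} (ht : t ∈ M1) (ht0 : t ≠ 0) {a : H} (ha : a ∈ A t) (m : M) : k • (a • m + m) = a • m + m := by
  obtain ⟨g, hg, hkg⟩ := P.exists_to ht ht0
  have h1 : g⁻¹ * a * g ∈ A l := by
    have := P.conj ht ht0 g⁻¹ ha
    rw [inv_inv] at this
    have e : g⁻¹ • t = l := by rw [← hg, inv_smul_smul]
    rwa [e] at this
  have h2 := hR _ h1 (g⁻¹ • m)
  have e : (g⁻¹ * a * g) • (g⁻¹ • m) + g⁻¹ • m = g⁻¹ • (a • m + m) := by
    rw [smul_smul, smul_add, smul_smul]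
    congr 2
    group
  rw [e] at h2
  have h3 : k * g⁻¹ = g⁻¹ * k := by
    have h4 := hkg k hk
    calc k * g⁻¹ = g⁻¹ * (g * k) * g⁻¹ := by group
      _ = g⁻¹ * (k * g) * g⁻¹ := by rw [h4]
      _ = g⁻¹ * k := by group
  rw [smul_smul, h3, mul_smul] at h2
  exact smul_left_cancel _ h2

/-- two vectors of `M1` which are independent modulo `l` -/
theorem exists_two (h4 : ∃ a ∈ A l, ∃ b ∈ A l, a ≠ 1 ∧ b ≠ 1 ∧ a ≠ b) :
    ∃ v ∈ M1, ∃ w ∈ M1, (v ≠ 0 ∧ v ≠ l) ∧ (w ≠ 0 ∧ w ≠ l) ∧ v + w ≠ 0 ∧ v + w ≠ l := by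
  obtain ⟨a, ha, b, hb, ha1, hb1, hab⟩ := h4
  -- `c ≠ 1` in `A l` moves some vector of `M1`
  have hmv : ∀ {c : H}, c ∈ A l → c ≠ 1 → ∃ v ∈ M1, c • v = v + l := by
    intro c hc hc1
    by_contra hcon
    push Not at hcon
    exact hc1 (P.fa P.mem P.ne hc fun m hm => (P.sh P.mem P.ne hc hm).resolve_right (hcon m hm))
  have hne : ∀ {c v : H} {m : M}, c • m = m + l → c ∈ A l → m ≠ 0 ∧ m ≠ l := by
    intro c _ m e hc
    constructor
    · rintro rfl
      rw [smul_zero, zero_add] at e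
      exact P.ne e.symm
    · rintro rfl
      rw [P.fix_self P.mem P.ne hc, P.two] at e
      exact P.ne e
  obtain ⟨v, hv, ev⟩ := hmv ha ha1
  have hab' : a⁻¹ * b ≠ 1 := fun e => hab (inv_mul_eq_one.mp e)
  have hv2 := hne (v := 1) ev ha
  by_contra hcon
  push Not at hcon
  -- all vectors of `M1` are `0, l, v, v + l`
  have hall : ∀ w ∈ M1, w = 0 ∨ w = l ∨ w = v ∨ w = v + l := by
    intro w hw
    by_cases h0 : w = 0
    · exact Or.inl h0
    by_cases h1 : w = l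
    · exact Or.inr (Or.inl h1)
    have h2 := hcon v hv w hw hv2 ⟨h0, h1⟩
    by_cases h3 : v + w = 0
    · right; right; left
      have := P.self_add v w
      rw [h3, add_zero] at this
      exact this.symm
    · have h4 := h2 h3
      right; right; right
      have := P.self_add v w
      rw [h4] at this
      exact this.symm
  have hfix : ∀ {c : H}, c ∈ A l → c • v = v → c = 1 := by
    intro c hc e
    refine P.fa P.mem P.ne hc fun m hm => ?_
    have hcl := P.fix_self P.mem P.ne hc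
    rcases hall m hm with rfl | rfl | rfl | rfl
    · exact smul_zero c
    · exact hcl
    · exact e
    · rw [smul_add, e, hcl]
  have hbv : b • v = v + l := (P.sh P.mem P.ne hb hv).resolve_left fun e => hb1 (hfix hb e)
  apply hab'
  refine hfix (mul_mem (inv_mem ha) hb) ?_
  rw [mul_smul, hbv, ← ev, inv_smul_smul]

/-- every element of `A l` centralises a vector of `M1` outside `⟨l⟩` -/
theorem exists_fixed (h4 : ∃ a ∈ A l, ∃ b ∈ A l, a ≠ 1 ∧ b ≠ 1 ∧ a ≠ b) {c : H} (hc : c ∈ A l) :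
    ∃ v ∈ M1, v ≠ 0 ∧ v ≠ l ∧ c • v = v := by
  obtain ⟨v, hv, w, hw, hv2, hw2, h0, hl⟩ := P.exists_two h4
  rcases P.sh P.mem P.ne hc hv with e | e
  · exact ⟨v, hv, hv2.1, hv2.2, e⟩
  · rcases P.sh P.mem P.ne hc hw with e' | e'
    · exact ⟨w, hw, hw2.1, hw2.2, e'⟩
    · refine ⟨v + w, add_mem hv hw, h0, hl, ?_⟩
      rw [smul_add, e, e']
      have : v + l + (w + l) = v + w + (l + l) := by abel
      rw [this, P.two, add_zero]

/-- **section 4**: the end -/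
theorem false_of (h4 : ∃ a ∈ A l, ∃ b ∈ A l, a ≠ 1 ∧ b ≠ 1 ∧ a ≠ b)
    -- (1.1)
    (gl : ∀ v ∈ M1, v ≠ 0 → v ≠ l → ∀ a ∈ A l, a • v ≠ v → ∀ c ∈ A l, c • v = v →
      ∃ b ∈ A v, b • l = l ∧ b * a * b⁻¹ = a * c)
    -- the line `l`
    {I : AddSubgroup M} {al : M → H}
    (sq : ∀ a ∈ A l, a * a = 1)
    (comm : ∀ a ∈ A l, ∀ m : M, a • m + m ∈ I) (fix : ∀ a ∈ A l, ∀ u ∈ I, a • u = u)
    (al_mem : ∀ m, al m ∈ A l) (al_add : ∀ m m', al (m + m') = al m * al m') (al_surj : ∀ a ∈ A l, ∃ m, al m = a)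
    (al_conj : ∀ g : H, g • l = l → ∀ m, al (g • m) = g * al m * g⁻¹)
    -- (4.4)
    {b : H} (hbl : b • l = l) (hbA : ∀ a ∈ A l, b * a = a * b) (hbI : ∀ u ∈ I, b • u = u)
    {N : AddSubgroup M} (hN : ∀ m, al m = 1 → m ∈ N) {m₀ : M} (hm₀ : m₀ ∉ N) (hb : ∀ m, m ∉ N → b • m + m ∉ I) :
    False := by
  obtain ⟨a, ha, hk⟩ := P.exists_split hbl hbA
  have hinv : ∀ {c : H}, c ∈ A l → c⁻¹ = c := fun hc => inv_eq_of_mul_eq_one_left (sq _ hc)
  -- `k = a⁻¹ b` centralises `[M, A t]` for all `t ∈ M1#`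
  have hk3 : ∀ {t : M}, t ∈ M1 → t ≠ 0 → ∀ {c : H}, c ∈ A t → ∀ m : M, (a⁻¹ * b) • (c • m + m) = c • m + m := by
    intro t ht ht0 c hc m
    refine P.fix_all hk (fun c' hc' m' => ?_) ht ht0 hc m
    rw [mul_smul, hbI _ (comm c' hc' m'), fix _ (inv_mem ha) _ (comm c' hc' m')]
  -- a vector of `M₃` outside `N`
  obtain ⟨v, hv, hv0, hvl, hcv⟩ := P.exists_fixed h4 (al_mem m₀)
  obtain ⟨a₁, ha₁, e₁⟩ := P.hy P.mem P.ne hv hv0 hvl
  have e₁' : a₁ • v ≠ v := by
    rw [e₁]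
    intro e
    exact P.ne (add_eq_left.mp e)
  obtain ⟨b', hb', hb'l, e₂⟩ := gl v hv hv0 hvl a₁ ha₁ e₁' _ (al_mem m₀) hcv
  obtain ⟨m, hm⟩ := al_surj a₁ ha₁
  have h1 : al (b' • m + m) = al m₀ := by
    rw [al_add, al_conj b' hb'l, hm, e₂]
    have hc : a₁ * al m₀ = al m₀ * a₁ := by
      have h5 := sq _ (mul_mem ha₁ (al_mem m₀))
      calc a₁ * al m₀ = (a₁ * al m₀)⁻¹ := (inv_eq_of_mul_eq_one_left h5).symm
        _ = al m₀ * a₁ := by rw [mul_inv_rev, hinv ha₁, hinv (al_mem m₀)]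
    rw [hc, mul_assoc, sq _ ha₁, mul_one]
  have h2 : b' • m + m ∉ N := by
    intro h
    apply hm₀
    have h3 : (b' • m + m) + m₀ ∈ N := hN _ (by rw [al_add, h1, sq _ (al_mem m₀)])
    have h5 := add_mem h h3
    rwa [P.self_add] at h5
  refine hb _ h2 ?_
  have h6 := hk3 hv hv0 hb' m
  have h7 : b • (b' • m + m) = a • (b' • m + m) := by
    have h8 : a • (a⁻¹ * b) • (b' • m + m) = a • (b' • m + m) := by rw [h6]
    rwa [smul_smul, mul_inv_cancel_left] at h8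
  rw [h7]
  exact comm a ha _

end

end Proj

end Cfsg.Agent.Omega.NO3S.TwoOne.SG4
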