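import Mathlib

/-!
# NO-3S, `TwoOne` / `CompP`, `k ≥ 2`: hyperbolic pairs and `GL(A)` (bb OMEGA #19126 section 1 = #18574 (S1)), pure form

`H` acts on the elementary abelian 2-group `M`; `L` = the line vectors, `A l`, `I l`, `al l : M → A l` (`l ∈ L`) the data
of the line `l`; `E l = {m | al l m = 1}`.

* `Hyp L A al l v` : the pair `(l, v)` is hyperbolic, `l ∼ v`;  `Hp A B` : `B` is a hyperplane (index 2) of `A`
* `Sg0.trv` : (1.1), `C_{A v}(l)` induces on `A l` all transvections with axis `C_{A l}(v)`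
* `Sg0.sum`, `Sg0.all` : (1.2), every hyperplane of `A l` is `C_{A l}(v)`, `v ∼ l`
* `Sg0.gl` : `H_l` induces on `A l` all transvections; `Sg0.tr1`, `Sg0.tr2` : `H_l` is transitive on the nontrivial
  elements and on the pairs of different nontrivial elements of `A l`
-/

set_option autoImplicit false
set_option linter.unusedSectionVars false

namespace Cfsg.Agent.Omega.NO3S.TwoOne.SG1

section lin

theorem dual_all {V : Type*} [AddCommGroup V] [Module (ZMod 2) V] [Finite V]
    (P : Module.Dual (ZMod 2) V → Prop) (h0 : P 0) (hadd : ∀ f g, P f → P g → P (f + g))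
    (hsep : ∀ x : V, x ≠ 0 → ∃ f, P f ∧ f x ≠ 0) (f : Module.Dual (ZMod 2) V) : P f := by
  have : Module.Finite (ZMod 2) V := Module.Finite.of_finite
  let W : Subspace (ZMod 2) (Module.Dual (ZMod 2) V) :=
    { carrier := {f | P f}
      add_mem' := fun {a b} ha hb => hadd a b ha hb
      zero_mem' := h0
      smul_mem' := by
        intro c x hx
        rcases (by decide +revert : c = 0 ∨ c = 1) with rfl | rfl
        · simpa using h0
        · simpa using hx }
  have hb : W.dualCoannihilator = ⊥ := by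
    rw [eq_bot_iff]
    intro x hx
    rw [Submodule.mem_dualCoannihilator] at hx
    by_contra hx0
    obtain ⟨f, hf, hfx⟩ := hsep x hx0
    exact hfx (hx f hf)
  have h := Subspace.dualCoannihilator_dualAnnihilator_eq (W := W)
  rw [hb, Submodule.dualAnnihilator_bot] at h
  have : f ∈ W := h ▸ Submodule.mem_top
  exact this

variable {H : Type*} [Group H]

/-- `B` is a hyperplane of the elementary abelian 2-group `A` -/
structure Hp (A B : Subgroup H) : Prop where
  le : B ≤ A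
  ne : ∃ a ∈ A, a ∉ B
  mul : ∀ a ∈ A, ∀ b ∈ A, a ∉ B → b ∉ B → a * b ∈ B

theorem Hp.mul_iff {A B : Subgroup H} (h : Hp A B) {a b : H} (ha : a ∈ A) (hb : b ∈ A) :
    a * b ∈ B ↔ (a ∈ B ↔ b ∈ B) := by
  by_cases h1 : a ∈ B <;> by_cases h2 : b ∈ B
  · simp [h1, h2, mul_mem h1 h2]
  · simp only [h1, h2, iff_false, not_true_eq_false]
    intro h3
    exact h2 ((Subgroup.mul_mem_cancel_left B h1).1 h3)
  · simp only [h1, h2, iff_true]
    constructor
    · intro h3
      exact absurd ((Subgroup.mul_mem_cancel_right B h2).1 h3) h1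
    · intro h3; exact h3.elim
  · simp [h1, h2, h.mul a ha b hb h1 h2]

theorem comm_of_sq {A : Subgroup H} (hsq : ∀ a ∈ A, a * a = 1) {a b : H} (ha : a ∈ A) (hb : b ∈ A) :
    a * b = b * a := by
  have i : ∀ x ∈ A, x⁻¹ = x := fun x hx => inv_eq_of_mul_eq_one_left (hsq x hx)
  calc a * b = (a * b)⁻¹ := (i _ (mul_mem ha hb)).symm
    _ = b * a := by rw [mul_inv_rev, i a ha, i b hb]

/-- a set of hyperplanes which is closed under sums and which separates points is everything -/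
theorem hp_all [Finite H] {A : Subgroup H} (hsq : ∀ a ∈ A, a * a = 1) (P : Subgroup H → Prop)
    (hadd : ∀ B C D, Hp A B → Hp A C → Hp A D → P B → P C → (∀ a ∈ A, (a ∈ D ↔ (a ∈ B ↔ a ∈ C))) → P D)
    (hsep : ∀ a ∈ A, a ≠ 1 → ∃ B, Hp A B ∧ P B ∧ a ∉ B) {B : Subgroup H} (hB : Hp A B) : P B := by
  classical
  let _ : CommGroup A := { (inferInstance : Group A) with
    mul_comm := fun a b => Subtype.ext (comm_of_sq hsq a.2 b.2) }
  let _ : Module (ZMod 2) (Additive A) := AddCommGroup.zmodModule (n := 2) (by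
    intro x
    rw [two_nsmul]
    exact congrArg Additive.ofMul (Subtype.ext (hsq _ (Additive.toMul x).2) : (Additive.toMul x * Additive.toMul x : A) = 1))
  -- the functional of a hyperplane
  have mk : ∀ C : Subgroup H, Hp A C → ∃ f : Module.Dual (ZMod 2) (Additive A),
      ∀ x : Additive A, f x = 0 ↔ ((Additive.toMul x : A) : H) ∈ C := by
    intro C hC
    let f : Additive A →+ ZMod 2 :=
      { toFun := fun x => if ((Additive.toMul x : A) : H) ∈ C then 0 else 1
        map_zero' := by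
          rw [if_pos]
          exact one_mem C
        map_add' := by
          intro x y
          have e : ((Additive.toMul (x + y) : A) : H) = (Additive.toMul x : A) * (Additive.toMul y : A) := rfl
          rw [e]
          have hm := hC.mul_iff (Additive.toMul x : A).2 (Additive.toMul y : A).2
          by_cases h1 : ((Additive.toMul x : A) : H) ∈ C <;> by_cases h2 : ((Additive.toMul y : A) : H) ∈ C
          · rw [if_pos (hm.2 (by simp [h1, h2])), if_pos h1, if_pos h2]; rfl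
          · rw [if_neg (fun h => by simpa [h1, h2] using hm.1 h), if_pos h1, if_neg h2]; rfl
          · rw [if_neg (fun h => by simpa [h1, h2] using hm.1 h), if_neg h1, if_pos h2]; rfl
          · rw [if_pos (hm.2 (by simp [h1, h2])), if_neg h1, if_neg h2]; rfl }
    refine ⟨AddMonoidHom.toZModLinearMap 2 f, fun x => ?_⟩
    change (if ((Additive.toMul x : A) : H) ∈ C then (0 : ZMod 2) else 1) = 0 ↔ _
    by_cases h : ((Additive.toMul x : A) : H) ∈ C <;> simp [h]
  -- the hyperplane of a functional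
  have km : ∀ f : Module.Dual (ZMod 2) (Additive A), f ≠ 0 → ∃ C : Subgroup H, Hp A C ∧
      ∀ x : Additive A, f x = 0 ↔ ((Additive.toMul x : A) : H) ∈ C := by
    intro f hf
    let C : Subgroup H :=
      { carrier := {a | ∃ h : a ∈ A, f (Additive.ofMul (⟨a, h⟩ : A)) = 0}
        one_mem' := ⟨one_mem A, map_zero f⟩
        mul_mem' := by
          rintro a b ⟨ha, ha'⟩ ⟨hb, hb'⟩
          refine ⟨mul_mem ha hb, ?_⟩
          have : f (Additive.ofMul (⟨a, ha⟩ : A) + Additive.ofMul (⟨b, hb⟩ : A)) = 0 := by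
            rw [map_add, ha', hb', add_zero]
          exact this
        inv_mem' := by
          rintro a ⟨ha, ha'⟩
          refine ⟨inv_mem ha, ?_⟩
          have : f (- Additive.ofMul (⟨a, ha⟩ : A)) = 0 := by rw [map_neg, ha', neg_zero]
          exact this }
    have hmem : ∀ x : Additive A, f x = 0 ↔ ((Additive.toMul x : A) : H) ∈ C := by
      intro x
      constructor
      · intro h; exact ⟨(Additive.toMul x : A).2, h⟩
      · rintro ⟨h, h'⟩; exact h'
    refine ⟨C, ⟨?_, ?_, ?_⟩, hmem⟩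
    · rintro a ⟨ha, -⟩; exact ha
    · by_contra hcon
      push Not at hcon
      apply hf
      ext x
      exact (hmem x).2 (hcon _ (Additive.toMul x : A).2)
    · intro a ha b hb h1 h2
      have e1 : f (Additive.ofMul (⟨a, ha⟩ : A)) = 1 := by
        have : f (Additive.ofMul (⟨a, ha⟩ : A)) ≠ 0 := fun h => h1 ⟨ha, h⟩
        revert this
        generalize f (Additive.ofMul (⟨a, ha⟩ : A)) = t
        revert t
        decide
      have e2 : f (Additive.ofMul (⟨b, hb⟩ : A)) = 1 := by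
        have : f (Additive.ofMul (⟨b, hb⟩ : A)) ≠ 0 := fun h => h2 ⟨hb, h⟩
        revert this
        generalize f (Additive.ofMul (⟨b, hb⟩ : A)) = t
        revert t
        decide
      refine ⟨mul_mem ha hb, ?_⟩
      have : f (Additive.ofMul (⟨a, ha⟩ : A) + Additive.ofMul (⟨b, hb⟩ : A)) = 0 := by
        rw [map_add, e1, e2]; decide
      exact this
  have hall : ∀ f : Module.Dual (ZMod 2) (Additive A), f = 0 ∨ ∃ C, Hp A C ∧ P C ∧
      ∀ x : Additive A, f x = 0 ↔ ((Additive.toMul x : A) : H) ∈ C := by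
    apply dual_all
    · exact Or.inl rfl
    · rintro f g hf hg
      rcases hf with rfl | ⟨C, hC, hPC, hfC⟩
      · simpa using hg
      rcases hg with rfl | ⟨D, hD, hPD, hgD⟩
      · rw [add_zero]; exact Or.inr ⟨C, hC, hPC, hfC⟩
      by_cases h0 : f + g = 0
      · exact Or.inl h0
      obtain ⟨E, hE, hfE⟩ := km (f + g) h0
      refine Or.inr ⟨E, hE, hadd C D E hC hD hE hPC hPD ?_, hfE⟩
      intro a ha
      have h1 := hfE (Additive.ofMul (⟨a, ha⟩ : A))
      have h2 := hfC (Additive.ofMul (⟨a, ha⟩ : A))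
      have h3 := hgD (Additive.ofMul (⟨a, ha⟩ : A))
      change _ ↔ a ∈ E at h1
      change _ ↔ a ∈ C at h2
      change _ ↔ a ∈ D at h3
      rw [← h1, ← h2, ← h3, LinearMap.add_apply]
      generalize f (Additive.ofMul (⟨a, ha⟩ : A)) = s
      generalize g (Additive.ofMul (⟨a, ha⟩ : A)) = t
      revert s t
      decide
    · intro x hx
      obtain ⟨C, hC, hPC, hxC⟩ := hsep (Additive.toMul x : A) (Additive.toMul x : A).2 (by
        intro h
        apply hx
        exact congrArg Additive.ofMul (Subtype.ext h : (Additive.toMul x : A) = 1))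
      obtain ⟨f, hf⟩ := mk C hC
      exact ⟨f, Or.inr ⟨C, hC, hPC, hf⟩, fun h => hxC ((hf x).1 h)⟩
  obtain ⟨f, hf⟩ := mk B hB
  rcases hall f with h0 | ⟨C, hC, hPC, hfC⟩
  · exfalso
    obtain ⟨a, ha, haB⟩ := hB.ne
    apply haB
    have := (hf (Additive.ofMul (⟨a, ha⟩ : A))).1 (by rw [h0]; rfl)
    exact this
  · have : B = C := by
      ext a
      constructor
      · intro h
        have := (hfC (Additive.ofMul (⟨a, hB.le h⟩ : A))).1 ((hf _).2 h)
        exact this
      · intro h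
        have := (hf (Additive.ofMul (⟨a, hC.le h⟩ : A))).1 ((hfC _).2 h)
        exact this
    rw [this]; exact hPC

/-- separation: `x ∈ A ∖ C` is outside of some hyperplane `B ≥ C` -/
theorem hp_sep [Finite H] {A : Subgroup H} (hsq : ∀ a ∈ A, a * a = 1) {C : Subgroup H} (hCA : C ≤ A) {x : H}
    (hx : x ∈ A) (hxC : x ∉ C) : ∃ B, Hp A B ∧ C ≤ B ∧ x ∉ B := by
  classical
  obtain ⟨B, hCB, hB⟩ := Finite.exists_le_maximal (α := Subgroup H)
    (p := fun B : Subgroup H => B ≤ A ∧ C ≤ B ∧ x ∉ B) ⟨hCA, le_rfl, hxC⟩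
  obtain ⟨⟨hBA, -, hxB⟩, hmax⟩ := hB
  -- every y outside of B lies in x B
  have key : ∀ y ∈ A, y ∉ B → x * y ∈ B := by
    intro y hy hyB
    -- the subgroup B ∪ y B
    let D : Subgroup H :=
      { carrier := {a | a ∈ B ∨ (a ∈ A ∧ y * a ∈ B)}
        one_mem' := Or.inl (one_mem B)
        mul_mem' := by
          have hc : ∀ a ∈ B, ∀ b, b ∈ A → y * b ∈ B → y * (a * b) ∈ B := by
            intro a ha b hb hyb
            have : y * (a * b) = a * (y * b) := by
              rw [← mul_assoc, comm_of_sq hsq hy (hBA ha), mul_assoc]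
            rw [this]; exact mul_mem ha hyb
          rintro a b (ha | ⟨ha, hya⟩) (hb | ⟨hb, hyb⟩)
          · exact Or.inl (mul_mem ha hb)
          · exact Or.inr ⟨mul_mem (hBA ha) hb, hc a ha b hb hyb⟩
          · refine Or.inr ⟨mul_mem ha (hBA hb), ?_⟩
            rw [← mul_assoc]; exact mul_mem hya hb
          · refine Or.inl ?_
            have : a * b = (y * a) * (y * b) := by
              have h1 : y * a = a * y := comm_of_sq hsq hy ha
              rw [h1, mul_assoc, ← mul_assoc y y b, hsq y hy, one_mul]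
            rw [this]; exact mul_mem hya hyb
        inv_mem' := by
          rintro a (ha | ⟨ha, hya⟩)
          · exact Or.inl (inv_mem ha)
          · refine Or.inr ⟨inv_mem ha, ?_⟩
            rw [inv_eq_of_mul_eq_one_left (hsq a ha)]
            exact hya }
    have hBD : B ≤ D := fun a ha => Or.inl ha
    have hyD : y ∈ D := Or.inr ⟨hy, by rw [hsq y hy]; exact one_mem B⟩
    have hDA : D ≤ A := by
      rintro a (ha | ⟨ha, -⟩)
      · exact hBA ha
      · exact ha
    by_contra hcon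
    have hxD : x ∉ D := by
      rintro (h | ⟨-, h⟩)
      · exact hxB h
      · exact hcon (by rw [comm_of_sq hsq hx hy]; exact h)
    exact hyB (hmax ⟨hDA, hCB.trans hBD, hxD⟩ hBD hyD)
  refine ⟨B, ⟨hBA, ⟨x, hx, hxB⟩, ?_⟩, hCB, hxB⟩
  intro a ha b hb haB hbB
  have h1 := key a ha haB
  have h2 := key b hb hbB
  have : a * b = (x * a) * (x * b) := by
    have h1 : x * a = a * x := comm_of_sq hsq hx ha
    rw [h1, mul_assoc, ← mul_assoc x x b, hsq x hx, one_mul]
  rw [this]; exact mul_mem h1 h2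

end lin

variable {M H : Type*} [AddCommGroup M] [Group H] [DistribMulAction H M]

/-- `l ∼ v` : the pair is hyperbolic -/
structure Hyp (L : Set M) (A : M → Subgroup H) (al : M → M → H) (l v : M) : Prop where
  hl : l ∈ L
  hv : v ∈ L
  lv : al l v = 1
  vl : al v l = 1
  ml : ∃ a ∈ A l, a • v ≠ v
  mv : ∃ a ∈ A v, a • l ≠ l

/-- the fields for (1.1), (1.2) -/
structure Sg0 (L : Set M) (A : M → Subgroup H) (I : M → AddSubgroup M) (al : M → M → H) : Prop where
  two : ∀ m : M, m + m = 0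
  smul : ∀ (h : H) {l : M}, l ∈ L → h • l ∈ L
  trans : ∀ {l m : M}, l ∈ L → m ∈ L → ∃ h : H, h • l = m
  A_conj : ∀ (h : H) {l : M} {a : H}, l ∈ L → a ∈ A l → h * a * h⁻¹ ∈ A (h • l)
  sq : ∀ {l : M} {a : H}, l ∈ L → a ∈ A l → a * a = 1
  self : ∀ {l : M}, l ∈ L → l ∈ I l
  comm : ∀ {l : M} {a : H}, l ∈ L → a ∈ A l → ∀ m : M, a • m + m ∈ I l
  fix : ∀ {l : M} {a : H} {u : M}, l ∈ L → a ∈ A l → u ∈ I l → a • u = u
  al_mem : ∀ {l : M}, l ∈ L → ∀ m, al l m ∈ A l
  al_add : ∀ {l : M}, l ∈ L → ∀ m m', al l (m + m') = al l m * al l m'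
  al_surj : ∀ {l : M} {a : H}, l ∈ L → a ∈ A l → ∃ m, al l m = a
  al_conj : ∀ {l : M} (h : H), l ∈ L → ∀ m, al (h • l) (h • m) = h * al l m * h⁻¹
  al_ker : ∀ {l : M}, l ∈ L → ∀ m, al l m = 1 ↔ ∀ a ∈ A l, a • m = m ∨ a • m = m + l
  phi : ∀ {l : M} {a : H}, l ∈ L → a ∈ A l → a ≠ 1 → ∃ e, al l e = 1 ∧ a • e = e + l

variable {L : Set M} {A : M → Subgroup H} {I : M → AddSubgroup M} {al : M → M → H}

namespace Hyp

theorem symm {l v : M} (h : Hyp L A al l v) : Hyp L A al v l := ⟨h.hv, h.hl, h.vl, h.lv, h.mv, h.ml⟩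

end Hyp

namespace Sg0

section

variable (G : Sg0 L A I al)
include G

theorem two_left (x y : M) : x + (x + y) = y := by
  rw [← add_assoc, G.two, zero_add]

theorem add_eq_zero' {x y : M} (h : x + y = 0) : x = y := by
  have := congrArg (· + y) h
  simpa [add_assoc, G.two] using this

theorem inv {l : M} {a : H} (hl : l ∈ L) (ha : a ∈ A l) : a⁻¹ = a :=
  inv_eq_of_mul_eq_one_left (G.sq hl ha)

theorem A_comm {l : M} {a b : H} (hl : l ∈ L) (ha : a ∈ A l) (hb : b ∈ A l) : a * b = b * a := by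
  have h := G.sq hl (mul_mem ha hb)
  calc a * b = (a * b)⁻¹ := (inv_eq_of_mul_eq_one_left h).symm
    _ = b * a := by rw [mul_inv_rev, G.inv hl ha, G.inv hl hb]

theorem A_fix {l : M} {a : H} (hl : l ∈ L) (ha : a ∈ A l) : a • l = l := G.fix hl ha (G.self hl)

/-- conjugate by an element which fixes `l` -/
theorem A_conj' {l : M} {a h : H} (hl : l ∈ L) (ha : a ∈ A l) (hhl : h • l = l) : h * a * h⁻¹ ∈ A l := by
  have := G.A_conj h hl ha
  rwa [hhl] at this

theorem hyp_conj (h : H) {l v : M} (hy : Hyp L A al l v) : Hyp L A al (h • l) (h • v) := by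
  refine ⟨G.smul h hy.hl, G.smul h hy.hv, ?_, ?_, ?_, ?_⟩
  · rw [G.al_conj h hy.hl, hy.lv]; group
  · rw [G.al_conj h hy.hv, hy.vl]; group
  · obtain ⟨a, ha, hav⟩ := hy.ml
    refine ⟨h * a * h⁻¹, G.A_conj h hy.hl ha, fun e => hav ?_⟩
    rw [mul_smul, inv_smul_smul, mul_smul] at e
    exact smul_left_cancel h e
  · obtain ⟨a, ha, hav⟩ := hy.mv
    refine ⟨h * a * h⁻¹, G.A_conj h hy.hv ha, fun e => hav ?_⟩
    rw [mul_smul, inv_smul_smul, mul_smul] at e
    exact smul_left_cancel h e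

/-- moved: `a • v = v + l` -/
theorem mov {l v : M} (hy : Hyp L A al l v) {a : H} (ha : a ∈ A l) (h : a • v ≠ v) : a • v = v + l :=
  ((G.al_ker hy.hl v).1 hy.lv a ha).resolve_left h

/-- the sum of a hyperbolic pair is a line vector -/
theorem add_mem {l v : M} (hy : Hyp L A al l v) : v + l ∈ L := by
  obtain ⟨a, ha, hav⟩ := hy.ml
  rw [← G.mov hy ha hav]
  exact G.smul a hy.hv

/-- `A l ∩ A v = 1` as soon as one of them moves the other vector -/
theorem inf_one {l v : M} (hl : l ∈ L) (hv : v ∈ L) (hm : ∃ a ∈ A v, a • l ≠ l) {c : H} (hc : c ∈ A l)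
    (hc' : c ∈ A v) : c = 1 := by
  by_contra h1
  obtain ⟨e, -, he⟩ := G.phi hl hc h1
  have h2 := G.comm hv hc' e
  rw [he] at h2
  have h3 : l ∈ I v := by
    have : e + l + e = l := by
      rw [add_comm e l, add_assoc, G.two, add_zero]
    rwa [this] at h2
  obtain ⟨a, ha, hal⟩ := hm
  exact hal (G.fix hv ha h3)

theorem card_eq [Finite H] {l v : M} (hl : l ∈ L) (hv : v ∈ L) : Nat.card (A l) = Nat.card (A v) := by
  have key : ∀ {l v : M}, l ∈ L → v ∈ L → Nat.card (A l) ≤ Nat.card (A v) := by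
    intro l v hl hv
    obtain ⟨h, rfl⟩ := G.trans hl hv
    refine Nat.card_le_card_of_injective (fun a : A l => (⟨h * a * h⁻¹, G.A_conj h hl a.2⟩ : A (h • l))) ?_
    intro a b hab
    have := congrArg Subtype.val hab
    exact Subtype.ext (mul_left_cancel (mul_right_cancel this))
  exact le_antisymm (key hl hv) (key hv hl)

/-- `C_{A l}(v)` -/
theorem card_fix [Finite H] {l v : M} (hy : Hyp L A al l v) :
    2 * Nat.card (A l ⊓ MulAction.stabilizer H v : Subgroup H) = Nat.card (A l) := by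
  classical
  obtain ⟨a, ha, hav⟩ := hy.ml
  have h1 : (MulAction.stabilizer H v).relIndex (A l) = 2 := by
    unfold Subgroup.relIndex
    rw [Subgroup.index_eq_two_iff]
    refine ⟨⟨a, ha⟩, fun b => ?_⟩
    have hb := (G.al_ker hy.hl v).1 hy.lv b.1 b.2
    have e1 : ((b * ⟨a, ha⟩ : A l) ∈ (MulAction.stabilizer H v).subgroupOf (A l)) ↔ (b : H) • (a • v) = v := by
      rw [Subgroup.mem_subgroupOf, MulAction.mem_stabilizer_iff, Subgroup.coe_mul, mul_smul]
    have e2 : (b ∈ (MulAction.stabilizer H v).subgroupOf (A l)) ↔ (b : H) • v = v := by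
      rw [Subgroup.mem_subgroupOf, MulAction.mem_stabilizer_iff]
    rw [e1, e2, G.mov hy ha hav, smul_add, G.A_fix hy.hl b.2]
    by_cases hbv : (b : H) • v = v
    · refine Or.inr ⟨hbv, fun h => ?_⟩
      rw [hbv] at h
      apply hav
      rw [G.mov hy ha hav]
      exact h
    · refine Or.inl ⟨?_, hbv⟩
      rw [hb.resolve_left hbv, add_assoc, G.two, add_zero]
  have h2 := ((MulAction.stabilizer H v).subgroupOf (A l)).card_mul_index
  have h3 : ((MulAction.stabilizer H v).subgroupOf (A l)).index = 2 := h1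
  rw [h3] at h2
  have h4 : Nat.card ((MulAction.stabilizer H v).subgroupOf (A l)) = Nat.card (A l ⊓ MulAction.stabilizer H v : Subgroup H) := by
    rw [← Subgroup.inf_subgroupOf_left]
    exact Nat.card_congr (Subgroup.subgroupOfEquivOfLe inf_le_left).toEquiv
  rw [← h4, mul_comm]
  exact h2

/-- `C_{A l}(v)` is a hyperplane of `A l` -/
theorem hp {l v : M} (hy : Hyp L A al l v) : Hp (A l) (A l ⊓ MulAction.stabilizer H v) := by
  obtain ⟨a, ha, hav⟩ := hy.ml
  refine ⟨inf_le_left, ⟨a, ha, fun h => hav h.2⟩, ?_⟩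
  intro a ha b hb h1 h2
  have h1' : a • v ≠ v := fun h => h1 ⟨ha, h⟩
  have h2' : b • v ≠ v := fun h => h2 ⟨hb, h⟩
  refine ⟨mul_mem ha hb, ?_⟩
  change (a * b) • v = v
  rw [mul_smul, G.mov hy hb h2', smul_add, G.mov hy ha h1', G.A_fix hy.hl ha,
    add_assoc, G.two, add_zero]

/-- `[C_{A l}(v), C_{A v}(l)] = 1` -/
theorem comm_fix {l v : M} (hy : Hyp L A al l v) {a b : H} (ha : a ∈ A l) (hav : a • v = v) (hb : b ∈ A v)
    (hbl : b • l = l) : b * a * b⁻¹ = a := by
  have h1 : b * a * b⁻¹ * a⁻¹ ∈ A l := mul_mem (G.A_conj' hy.hl ha hbl) (inv_mem ha)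
  have h2 : b * a * b⁻¹ * a⁻¹ ∈ A v := by
    have : b * a * b⁻¹ * a⁻¹ = b * (a * b⁻¹ * a⁻¹) := by group
    rw [this]
    exact mul_mem hb (G.A_conj' hy.hv (inv_mem hb) hav)
  exact mul_inv_eq_one.1 (G.inf_one hy.hl hy.hv hy.mv h1 h2)

/-- (1.1) `C_{A v}(l)` induces on `A l` all transvections with axis `C_{A l}(v)` -/
theorem trv [Finite H] {l v : M} (hy : Hyp L A al l v) {c : H} (hc : c ∈ A l) (hcv : c • v = v) :
    ∃ b ∈ A v, b • l = l ∧ ∀ a ∈ A l, (a • v = v → b * a * b⁻¹ = a) ∧ (a • v ≠ v → b * a * b⁻¹ = a * c) := by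
  classical
  obtain ⟨a0, ha0, ha0v⟩ := hy.ml
  have ha0' : a0 • v = v + l := G.mov hy ha0 ha0v
  have hl := hy.hl
  have hv := hy.hv
  let A1 : Subgroup H := A l ⊓ MulAction.stabilizer H v
  let A2 : Subgroup H := A v ⊓ MulAction.stabilizer H l
  have hk : ∀ b ∈ A2, b * a0 * b⁻¹ * a0⁻¹ ∈ A1 := by
    intro b hb2
    have hb : b ∈ A v := hb2.1
    have hbl' : b • l = l := hb2.2
    refine ⟨(mul_mem (G.A_conj' hl ha0 hbl') (inv_mem ha0) : _ ∈ A l), ?_⟩
    change (b * a0 * b⁻¹ * a0⁻¹) • v = v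
    have e1 : a0⁻¹ • v = v + l := by rw [G.inv hl ha0, ha0']
    have e2 : b⁻¹ • (v + l) = v + l := by
      rw [inv_smul_eq_iff, smul_add, G.A_fix hv hb, hbl']
    have e3 : a0 • (v + l) = v := by
      rw [smul_add, ha0', G.A_fix hl ha0, add_assoc, G.two, add_zero]
    rw [mul_smul, mul_smul, mul_smul, e1, e2, e3, G.A_fix hv hb]
  let k : A2 → A1 := fun b => ⟨b * a0 * (b : H)⁻¹ * a0⁻¹, hk b b.2⟩
  have hinj : Function.Injective k := by
    rintro ⟨b, hb, hbl⟩ ⟨b', hb', hbl'⟩ hbb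
    have e0 : b * a0 * b⁻¹ * a0⁻¹ = b' * a0 * b'⁻¹ * a0⁻¹ := congrArg Subtype.val hbb
    have e1 : b * a0 * b⁻¹ = b' * a0 * b'⁻¹ := mul_right_cancel e0
    have e2 : a0 * (b'⁻¹ * b) * a0⁻¹ = b'⁻¹ * b := by
      have : b'⁻¹ * (b * a0 * b⁻¹) * b = b'⁻¹ * (b' * a0 * b'⁻¹) * b := by rw [e1]
      have h2 : b'⁻¹ * b * a0 = a0 * (b'⁻¹ * b) := by
        calc b'⁻¹ * b * a0 = b'⁻¹ * (b * a0 * b⁻¹) * b := by group
          _ = b'⁻¹ * (b' * a0 * b'⁻¹) * b := this
          _ = a0 * (b'⁻¹ * b) := by group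
      rw [← h2]; group
    have hd : b'⁻¹ * b ∈ A v := mul_mem (inv_mem hb') hb
    by_contra hne
    have hd1 : b'⁻¹ * b ≠ 1 := by
      intro h
      apply hne
      exact Subtype.ext (inv_mul_eq_one.1 h).symm
    obtain ⟨e, -, he⟩ := G.phi hv hd hd1
    have hvl : a0 • v ∈ L := G.smul a0 hv
    have hd' : b'⁻¹ * b ∈ A (a0 • v) := by
      have := G.A_conj a0 hv hd
      rwa [e2] at this
    have h1 := G.comm hvl hd' e
    rw [he, add_comm e v, add_assoc, G.two, add_zero] at h1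
    obtain ⟨b2, hb2, hb2l⟩ := hy.mv
    have h2 := G.fix hvl (G.A_conj a0 hv hb2) h1
    rw [mul_smul, mul_smul, G.inv hl ha0, ha0'] at h2
    have h3 : b2 • (v + l) = v + l := by
      have := congrArg (a0 • ·) h2
      simp only [← mul_smul] at this
      rw [← mul_assoc, G.sq hl ha0, one_mul] at this
      rw [this, ha0']
    rw [smul_add, G.A_fix hv hb2] at h3
    exact hb2l (add_left_cancel h3)
  have hcard : Nat.card A2 = Nat.card A1 := by
    have h1 := G.card_fix hy
    have h2 := G.card_fix hy.symm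
    have h3 := G.card_eq hl hv
    have h1' : 2 * Nat.card A1 = Nat.card (A l) := h1
    have h2' : 2 * Nat.card A2 = Nat.card (A v) := h2
    omega
  have hbij : Function.Bijective k := (Nat.bijective_iff_injective_and_card k).2 ⟨hinj, hcard⟩
  obtain ⟨⟨b, hb, hbl⟩, hbc⟩ := hbij.2 ⟨c, hc, hcv⟩
  have hbl' : b • l = l := hbl
  have hbc' : b * a0 * b⁻¹ * a0⁻¹ = c := congrArg Subtype.val hbc
  refine ⟨b, hb, hbl', fun a ha => ⟨fun hav => G.comm_fix hy ha hav hb hbl', fun hav => ?_⟩⟩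
  have hav' : a • v = v + l := G.mov hy ha hav
  have h1 : (a * a0) • v = v := by
    rw [mul_smul, ha0', smul_add, hav', G.A_fix hl ha, add_assoc, G.two, add_zero]
  have h2 := G.comm_fix hy (mul_mem ha ha0) h1 hb hbl'
  have h3 : b * a0 * b⁻¹ = c * a0 := by rw [← hbc']; group
  have h4 : b * a * b⁻¹ * (b * a0 * b⁻¹) = a * a0 := by rw [← h2]; group
  rw [h3] at h4
  have h5 : b * a * b⁻¹ * c = a := by
    have : b * a * b⁻¹ * c * a0 = a * a0 := by rw [← h4]; group
    exact mul_right_cancel this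
  calc b * a * b⁻¹ = b * a * b⁻¹ * (c * c) := by rw [G.sq hl hc, mul_one]
    _ = (b * a * b⁻¹ * c) * c := by group
    _ = a * c := by rw [h5]

/-- (1.2) sums of functionals: `φ_u = φ_v + φ_w` -/
theorem sum [Finite H] {l v w : M} (hv : Hyp L A al l v) (hw : Hyp L A al l w) {c : H} (hc : c ∈ A l)
    (hcv : c • v = v) (hcw : c • w ≠ w) :
    ∃ u, Hyp L A al l u ∧ ∀ a ∈ A l, (a • u = u ↔ (a • v = v ↔ a • w = w)) := by
  obtain ⟨b, hb, hbl, hab⟩ := G.trv hv hc hcv
  have hy := G.hyp_conj b hw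
  rw [hbl] at hy
  refine ⟨b • w, hy, fun a ha => ?_⟩
  have hbb : b⁻¹ = b := G.inv hv.hv hb
  have e1 : a • b • w = b • w ↔ (b * a * b⁻¹) • w = w := by
    rw [mul_smul, mul_smul, hbb]
    constructor
    · intro h; rw [h, ← mul_smul, G.sq hv.hv hb, one_smul]
    · intro h
      have := congrArg (b • ·) h
      change b • b • a • b • w = b • w at this
      rwa [← mul_smul b b, G.sq hv.hv hb, one_smul] at this
  rw [e1]
  by_cases hav : a • v = v
  · rw [(hab a ha).1 hav]; simp [hav]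
  · rw [(hab a ha).2 hav]
    have hcw' : c • w = w + l := G.mov hw hc hcw
    have : (a * c) • w = a • w + l := by rw [mul_smul, hcw', smul_add, G.A_fix hv.hl ha]
    rw [this]
    by_cases haw : a • w = w
    · simp only [hav, haw, iff_true, iff_false]
      intro h
      apply hcw
      rw [hcw']; exact h
    · rw [G.mov hw ha haw, add_assoc, G.two, add_zero]
      simp [hav, G.mov hw ha haw ▸ haw]

/-- (1.2) all functionals: with (0.10) every hyperplane `B` of `A l` is `C_{A l}(v)` for some `v ∼ l` -/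
theorem all [Finite H] {l : M} (hl : l ∈ L) (h10 : ∀ a ∈ A l, a ≠ 1 → ∃ v, Hyp L A al l v ∧ a • v ≠ v)
    {B : Subgroup H} (hB : Hp (A l) B) : ∃ v, Hyp L A al l v ∧ ∀ a ∈ A l, (a • v = v ↔ a ∈ B) := by
  refine hp_all (fun a ha => G.sq hl ha) (fun B => ∃ v, Hyp L A al l v ∧ ∀ a ∈ A l, (a • v = v ↔ a ∈ B)) ?_ ?_ hB
  · rintro B C D hB hC hD ⟨v, hv, hvB⟩ ⟨w, hw, hwC⟩ hBCD
    -- `c` fixes `v` and moves `w`
    obtain ⟨a, ha, haD⟩ := hD.ne
    have hne : ∃ c ∈ A l, c • v = v ∧ c • w ≠ w := by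
      have h1 := (hBCD a ha).not.1 haD
      by_cases haB : a ∈ B
      · exact ⟨a, ha, (hvB a ha).2 haB, fun h => h1 ⟨fun _ => (hwC a ha).1 h, fun _ => haB⟩⟩
      · have haC : a ∈ C := by
          by_contra haC
          exact h1 ⟨fun h => absurd h haB, fun h => absurd h haC⟩
        obtain ⟨b, hb, hbC⟩ := hC.ne
        by_cases hbB : b ∈ B
        · exact ⟨b, hb, (hvB b hb).2 hbB, fun h => hbC ((hwC b hb).1 h)⟩
        · refine ⟨a * b, mul_mem ha hb, (hvB _ (mul_mem ha hb)).2 (hB.mul a ha b hb haB hbB), fun h => hbC ?_⟩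
          have := (hwC _ (mul_mem ha hb)).1 h
          exact (Subgroup.mul_mem_cancel_left C haC).1 this
    obtain ⟨c, hc, hcv, hcw⟩ := hne
    obtain ⟨u, hu, hu'⟩ := G.sum hv hw hc hcv hcw
    refine ⟨u, hu, fun a ha => ?_⟩
    rw [hu' a ha, hvB a ha, hwC a ha, hBCD a ha]
  · intro a ha ha1
    obtain ⟨v, hv, hav⟩ := h10 a ha ha1
    exact ⟨_, G.hp hv, ⟨v, hv, fun b hb => ⟨fun h => ⟨hb, h⟩, fun h => h.2⟩⟩, fun h => hav h.2⟩

/-- (1.2) `H_l` induces on `A l` all transvections -/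
theorem gl [Finite H] {l : M} (hl : l ∈ L) (h10 : ∀ a ∈ A l, a ≠ 1 → ∃ v, Hyp L A al l v ∧ a • v ≠ v)
    {B : Subgroup H} (hB : Hp (A l) B) {c : H} (hc : c ∈ B) :
    ∃ h : H, h • l = l ∧ ∀ a ∈ A l, (a ∈ B → h * a * h⁻¹ = a) ∧ (a ∉ B → h * a * h⁻¹ = a * c) := by
  obtain ⟨v, hv, hvB⟩ := G.all hl h10 hB
  obtain ⟨b, -, hbl, hab⟩ := G.trv hv (hB.le hc) ((hvB c (hB.le hc)).2 hc)
  exact ⟨b, hbl, fun a ha => ⟨fun h => (hab a ha).1 ((hvB a ha).2 h), fun h => (hab a ha).2 (fun h' => h ((hvB a ha).1 h'))⟩⟩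

/-- `H_l` is transitive on the nontrivial elements of `A l` -/
theorem tr1 [Finite H] {l : M} (hl : l ∈ L) (h10 : ∀ a ∈ A l, a ≠ 1 → ∃ v, Hyp L A al l v ∧ a • v ≠ v)
    {a b : H} (ha : a ∈ A l) (ha1 : a ≠ 1) (hb : b ∈ A l) (hb1 : b ≠ 1) :
    ∃ h : H, h • l = l ∧ h * a * h⁻¹ = b := by
  classical
  have hsq : ∀ x ∈ A l, x * x = 1 := fun x hx => G.sq hl hx
  by_cases hab : a = b
  · exact ⟨1, one_smul _ _, by rw [hab]; group⟩
  have hz : ∀ x ∈ Subgroup.zpowers (a * b), x = 1 ∨ x = a * b := by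
    intro x hx
    obtain ⟨n, rfl⟩ := Subgroup.mem_zpowers_iff.1 hx
    have h2 : (a * b) ^ (2 : ℤ) = 1 := by
      rw [zpow_ofNat, pow_two]; exact hsq _ (mul_mem ha hb)
    rcases Int.even_or_odd' n with ⟨k, rfl | rfl⟩
    · left; rw [zpow_mul, h2, one_zpow]
    · right; rw [zpow_add, zpow_mul, h2, one_zpow, one_mul, zpow_one]
  have haz : a ∉ Subgroup.zpowers (a * b) := by
    intro h
    rcases hz a h with h | h
    · exact ha1 h
    · exact hb1 (by simpa using h.symm)
  obtain ⟨B, hB, hCB, haB⟩ := hp_sep hsq (Subgroup.zpowers_le.2 (mul_mem ha hb)) ha haz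
  obtain ⟨h, hhl, hh⟩ := G.gl hl h10 hB (hCB (Subgroup.mem_zpowers (a * b)))
  refine ⟨h, hhl, ?_⟩
  rw [(hh a ha).2 haB, ← mul_assoc, hsq a ha, one_mul]

/-- `H_l` is transitive on the pairs of different nontrivial elements of `A l` -/
theorem tr2 [Finite H] {l : M} (hl : l ∈ L) (h10 : ∀ a ∈ A l, a ≠ 1 → ∃ v, Hyp L A al l v ∧ a • v ≠ v)
    {a b a' b' : H} (ha : a ∈ A l) (ha1 : a ≠ 1) (hb : b ∈ A l) (hb1 : b ≠ 1) (hab : a ≠ b)
    (ha' : a' ∈ A l) (ha1' : a' ≠ 1) (hb' : b' ∈ A l) (hb1' : b' ≠ 1) (hab' : a' ≠ b') :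
    ∃ h : H, h • l = l ∧ h * a * h⁻¹ = a' ∧ h * b * h⁻¹ = b' := by
  classical
  have hsq : ∀ x ∈ A l, x * x = 1 := fun x hx => G.sq hl hx
  -- the case `a = a'`
  have key : ∀ x y z : H, x ∈ A l → y ∈ A l → z ∈ A l → x ≠ 1 → y ≠ 1 → z ≠ 1 → x ≠ y → x ≠ z →
      ∃ h : H, h • l = l ∧ h * x * h⁻¹ = x ∧ h * y * h⁻¹ = z := by
    intro x y z hx hy hz hx1 hy1 hz1 hxy hxz
    by_cases hyz : y = z
    · exact ⟨1, one_smul _ _, by group, by rw [hyz]; group⟩
    let C : Subgroup H := 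
      { carrier := {w | w = 1 ∨ w = x ∨ w = y * z ∨ w = x * (y * z)}
        one_mem' := Or.inl rfl
        mul_mem' := by
          have c1 : y * z * x = x * (y * z) := comm_of_sq hsq (mul_mem hy hz) hx
          have s1 : x * x = 1 := hsq x hx
          have s2 : y * z * (y * z) = 1 := hsq _ (mul_mem hy hz)
          have s3 : x * (x * (y * z)) = y * z := by rw [← mul_assoc, s1, one_mul]
          have s4 : y * z * (x * (y * z)) = x := by rw [← mul_assoc, c1, mul_assoc, s2, mul_one]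
          have s5 : x * (y * z) * x = y * z := by rw [mul_assoc, c1, s3]
          have s6 : x * (y * z) * (y * z) = x := by rw [mul_assoc, s2, mul_one]
          have s7 : x * (y * z) * (x * (y * z)) = 1 := hsq _ (mul_mem hx (mul_mem hy hz))
          rintro p q (rfl | rfl | rfl | rfl) (rfl | rfl | rfl | rfl)
          all_goals simp only [Set.mem_ofPred_eq, one_mul, mul_one, c1, s1, s2, s3, s4, s5, s6, s7, true_or, or_true]
        inv_mem' := by
          rintro p hp
          have hpA : p ∈ A l := by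
            rcases hp with rfl | rfl | rfl | rfl
            · exact one_mem _
            · exact hx
            · exact mul_mem hy hz
            · exact mul_mem hx (mul_mem hy hz)
          rw [inv_eq_of_mul_eq_one_left (hsq p hpA)]
          exact hp }
    have hCA : C ≤ A l := by
      rintro p (rfl | rfl | rfl | rfl)
      · exact one_mem _
      · exact hx
      · exact mul_mem hy hz
      · exact mul_mem hx (mul_mem hy hz)
    have hyC : y ∉ C := by
      rintro (h | h | h | h)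
      · exact hy1 h
      · exact hxy h.symm
      · exact hz1 (by simpa using h.symm)
      · apply hxz
        have h1 : x * (y * z) = y := h.symm
        have h2 : x * (z * y) = y := by rw [comm_of_sq hsq hz hy]; exact h1
        have h3 : x * z = 1 := by
          rw [← mul_assoc] at h2
          simpa using h2
        calc x = x * (z * z) := by rw [hsq z hz, mul_one]
          _ = x * z * z := by group
          _ = z := by rw [h3, one_mul]
    obtain ⟨B, hB, hCB, hyB⟩ := hp_sep hsq hCA hy hyC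
    obtain ⟨h, hhl, hh⟩ := G.gl hl h10 hB (hCB (show y * z ∈ C from Or.inr (Or.inr (Or.inl rfl))))
    refine ⟨h, hhl, (hh x hx).1 (hCB (Or.inr (Or.inl rfl))), ?_⟩
    rw [(hh y hy).2 hyB, ← mul_assoc, hsq y hy, one_mul]
  obtain ⟨g, hgl, hg⟩ := G.tr1 hl h10 ha ha1 ha' ha1'
  have hgb : g * b * g⁻¹ ∈ A l := G.A_conj' hl hb hgl
  obtain ⟨k, hkl, hk1, hk2⟩ := key a' (g * b * g⁻¹) b' ha' hgb hb' ha1'
    (by intro h; exact hb1 (by simpa using h)) hb1'
    (by
      intro h
      rw [← hg] at h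
      exact hab (mul_left_cancel (mul_right_cancel h))) hab'
  refine ⟨k * g, by rw [mul_smul, hgl, hkl], ?_, ?_⟩
  · calc k * g * a * (k * g)⁻¹ = k * (g * a * g⁻¹) * k⁻¹ := by group
      _ = a' := by rw [hg, hk1]
  · calc k * g * b * (k * g)⁻¹ = k * (g * b * g⁻¹) * k⁻¹ := by group
      _ = b' := hk2

end

end Sg0

end Cfsg.Agent.Omega.NO3S.TwoOne.SG1
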