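import Cfsg.Agent.Omega.NO3S.TwoOne.SymRelD
import Cfsg.Agent.Omega.NO3S.TwoOne.Alpha
import Cfsg.Agent.Omega.NO3S.TwoOne.Inst

/-!
# NO-3S, `q = 2`, `n = 1`, no `λ`-transvections, `D_x > I` (helper881's text #19126, (1.3), group level)

`h : One T V z`, `NT V`, `L` another line on `z`, `y ∈ V`, `q ∈ L`, `q ∉ E_z(V)` (an `S`-pair).

* `One.sq_mem` : for `w ∈ W_y` and `e ∈ E_q(L)` moving `y` the element `[w, w^e]` lies in `I_V ∩ I_L`;
* `One.sq_const` : `β(a, a) ≠ 0 ≠ β(n, n)`, `n` the class of `q`, imply `β(a, a) = β(n, n)`.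
-/

set_option autoImplicit false
set_option linter.unusedSectionVars false

namespace Cfsg.Agent.Omega.NO3S.TwoOne

open Subgroup Cfsg Cfsg.Agent.ZN Cfsg.Agent.MinSimple.Geo Cfsg.Agent.Omega.CaseL
open Cfsg.Agent.Omega.NO3S.Fit
open Cfsg.Agent.ZN.Block (conj_mem_of_normalizer conj_mem_of_normalizer' le_normalizer_of_forall
  mem_normalizer_of)
open scoped commutatorElement

universe u

variable {G : Type u} [Group G]

namespace One

variable {T V L : Subgroup G} {z y q d e w : G}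

/-- `[w, w^e] ∈ I_V ∩ I_L` -/
theorem sq_mem [Finite G] (h : One T V z) (hN : NT V) (hL : L ∈ lines V z) (hy : y ∈ V) (hy1 : y ≠ 1)
    (hyz : y ≠ z) (hq : q ∈ L) (hq1 : q ≠ 1) (hqz : q ≠ z) (hd : d ∈ dd V y) (hdI : d ∉ ii V)
    (hqE : q ∉ ee V z) (he : e ∈ ee L q) (ey : e * y * e⁻¹ = z * y) (hw : w ∈ ws V y) :
    ⁅w, e * w * e⁻¹⁆ ∈ ii V ∧ ⁅w, e * w * e⁻¹⁆ ∈ ii L := by
  have hz := h.ln.z_mem
  have hz1 := h.ln.z_ne
  obtain ⟨-, -, T', h'⟩ := h.of_line hL hz1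
  have hzL := h'.ln.z_mem
  have hNL := hN.of_lines hL
  have hs : z * y ∈ V := mul_mem hz hy
  have hs1 : z * y ≠ 1 := h.mul_ne_one hy (Ne.symm hyz)
  have hyE : y ∉ ee L z := h.not_mem_ee_symm hN hL hy hy1 hyz hq hq1 hqz hd hdI hqE
  -- `[w, q] ∈ E_z(L)`
  obtain ⟨c, hc, hcI⟩ := h.exists_dd_line hL hd hy hy1 hdI hq hq1
  have hwL : w ∈ ws L y := by rw [ws_of_lines hL]; exact hw
  have h1 : w * q * w⁻¹ * q⁻¹ ∈ ee L z :=
    h'.nsix_nt hNL (h.mem_lines_symm hL) hq hq1 hqz hy hy1 hyz hc hcI hyE hwL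
  have hww : w * w = 1 := h.sq hy hy1 w hw
  have hwi : w⁻¹ = w := inv_eq_self hww
  have hee : e * e = 1 := h'.sq hq hq1 e he.1
  have hei : e⁻¹ = e := inv_eq_self hee
  have h2 : e * (w * q * w⁻¹ * q⁻¹) = (w * q * w⁻¹ * q⁻¹) * e := h'.ee_comm hq hq1 hzL hz1 he h1
  have h3 : e * q = q * e := h'.comm hq hq1 e he.1 q (h'.V_le hq hq1 hq)
  have h4 : e * (w * q * w⁻¹) = w * q * w⁻¹ * e := by
    have := comm_mul_of h2 h3
    have e1 : w * q * w⁻¹ * q⁻¹ * q = w * q * w⁻¹ := by group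
    rwa [e1] at this
  -- `f = e^w` centralises `q`
  have h5 : (w * e * w⁻¹) * q = q * (w * e * w⁻¹) := by
    have e1 : w * (e * (w * q * w⁻¹)) * w⁻¹ = w * (w * q * w⁻¹ * e) * w⁻¹ := by rw [h4]
    have e2 : w * (e * (w * q * w⁻¹)) * w⁻¹ = (w * e * w⁻¹) * ((w * w) * q * (w * w)⁻¹) := by group
    have e3 : w * (w * q * w⁻¹ * e) * w⁻¹ = ((w * w) * q * (w * w)⁻¹) * (w * e * w⁻¹) := by group
    rw [e2, e3, hww] at e1
    simpa using e1
  have es : e * w * e⁻¹ ∈ ws V (z * y) := by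
    have := conj_mem_ws e hw
    rwa [ey] at this
  have eq : ⁅w, e * w * e⁻¹⁆ = ⁅w * e * w⁻¹, e⁆ := by
    have hss : (e * w * e⁻¹)⁻¹ = e * w * e⁻¹ := inv_eq_self (h.sq hs hs1 _ es)
    simp only [commutatorElement_def]
    calc w * (e * w * e⁻¹) * w⁻¹ * (e * w * e⁻¹)⁻¹ = w * (e * w * e⁻¹) * w⁻¹ * (e * w * e⁻¹) := by rw [hss]
      _ = (w * e * w) * e⁻¹ * w⁻¹ * (e * w * e⁻¹) := by group
      _ = (w * e * w⁻¹) * e * (w * e⁻¹ * w⁻¹) * e⁻¹ := by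
        have e1 : w * (e * w) * w⁻¹ = w * e := by group
        rw [hwi, hei]; group
      _ = w * e * w⁻¹ * e * (w * e * w⁻¹)⁻¹ * e⁻¹ := by group
  have hi : ⁅w, e * w * e⁻¹⁆ ∈ ii V := h.comm_ii_mem hy hy1 hs hs1 hw es
  refine ⟨hi, h'.mem_ii hzL hz1 hq hq1 hqz ?_ ?_⟩
  · rw [ws_of_lines hL]; exact hi z hz hz1
  · rw [eq, commutatorElement_def]
    have h6 := conj_mem_ws (V := L) (w * e * w⁻¹) he.1
    rw [conj_eq_of_comm h5] at h6
    exact mul_mem h6 (inv_mem he.1)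

/-- **(1.3)** `β(a, a) ≠ 0 ≠ β(n, n)` imply `β(a, a) = β(n, n)` -/
theorem sq_const [Finite G] (h : One T V z) (hN : NT V) (hL : L ∈ lines V z) (hy : y ∈ V) (hy1 : y ≠ 1)
    (hyz : y ≠ z) (hq : q ∈ L) (hq1 : q ≠ 1) (hqz : q ≠ z) (hd : d ∈ dd V y) (hdI : d ∉ ii V)
    (hqE : q ∉ ee V z) (hw : w ∈ ws V y) {w' q' : G} (hw' : w' ∈ ws V z) (htw : Tw V y w z w')
    (hq' : q' ∈ ws V y) (htq : Tw V z q y q') (h1 : ⁅w, w'⁆ ∉ V) (h2 : ⁅q', q⁆ ∉ V) :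
    ⁅w, w'⁆ * ⁅q', q⁆⁻¹ ∈ V := by
  have hz := h.ln.z_mem
  have hz1 := h.ln.z_ne
  have hzz := h.ln.zz
  obtain ⟨-, -, T', h'⟩ := h.of_line hL hz1
  have hzL := h'.ln.z_mem
  have hNL := hN.of_lines hL
  have hs : z * y ∈ V := mul_mem hz hy
  have hs1 : z * y ≠ 1 := h.mul_ne_one hy (Ne.symm hyz)
  have hsz : z * y ≠ z := fun e' => hy1 (by simpa using e')
  have hsy : z * y ≠ y := fun e' => hz1 (by simpa using e')
  have hzy := h.ln.comm hz hy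
  have hqW : q ∈ ws V z := by
    have := h'.V_le hzL hz1 hq
    rwa [ws_of_lines hL] at this
  have hyE : y ∉ ee L z := h.not_mem_ee_symm hN hL hy hy1 hyz hq hq1 hqz hd hdI hqE
  obtain ⟨e, he, ey⟩ := h'.nt_move_ee hNL hq hq1 hzL hz1 (Ne.symm hqz)
    (by rw [ws_of_lines hL]; exact h.V_le hz hz1 hy) hyE
  obtain ⟨hu, hu'⟩ := h.sq_mem hN hL hy hy1 hyz hq hq1 hqz hd hdI hqE he ey hw
  set u := ⁅w, e * w * e⁻¹⁆ with hud
  have hek : e ∈ kq V z := by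
    rw [← kq_of_lines hL]
    exact he.2 z hzL hz1
  have es : e * w * e⁻¹ ∈ ws V (z * y) := by
    have := conj_mem_ws e hw
    rwa [ey] at this
  -- `u = β(a, a)`
  have hua : u * ⁅w, w'⁆⁻¹ ∈ V := by
    have t1 : Tw V y w (z * y) (e * w * e⁻¹) := by
      have := h.tw_conj (kq_le_xl hz hz1 hek) y w
      rwa [ey] at this
    have t2 : Tw V (z * y) (e * w * e⁻¹) z w' := h.tw_trans (h.tw_symm t1) htw
    have t3 : Tw V y w y w := (h.tw_self hy hy1 hw).mpr (by rw [mul_inv_cancel]; exact one_mem _)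
    exact h.beta_tw hy hy1 hs hs1 hsy hy hy1 hz hz1 (Ne.symm hyz) hw es hw hw' t3 t2
  have huV : u ∉ V := fun hc => h1 (by
    have := mul_mem (inv_mem hua) hc
    have e1 : (u * ⁅w, w'⁆⁻¹)⁻¹ * u = ⁅w, w'⁆ := by group
    rwa [e1] at this)
  have hqI : q ∉ ii V := fun hc => hqE (h.ii_le_ee hz hz1 hc)
  have huL : u ∉ L := by
    intro hc
    rcases h'.ln.four hzL hq hz1 hq1 (Ne.symm hqz) hc with e1 | e1 | e1 | e1
    · exact huV (by rw [e1]; exact one_mem _)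
    · exact huV (by rw [e1]; exact hz)
    · exact hqI (e1 ▸ hu)
    · apply hqI
      have := mul_mem (h.V_le_ii hz) hu
      rw [e1, ← mul_assoc, hzz, one_mul] at this
      exact this
  obtain ⟨g, hg, -, gq⟩ := h.nt_move_dd hN hz hz1 hqW (fun hc => hqE (h.dd_le_ee z hc))
  have S : Spr V L z y q e g :=
    ⟨hL, hy, hy1, hyz, hq, hq1, hqz, he, ey, fun p _ _ c hc => dd_comm_fl hc hg, gq⟩
  -- a mover `k ∈ K_s ∩ C(u)`
  obtain ⟨k, hk, hk1, hku⟩ := h.exists_mover_cent hu huV hs hs1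
  have hkz : k * z * k⁻¹ = y := by
    rw [h.move hs hs1 hz hz1 (Ne.symm hsz) hk hk1, hzy, mul_assoc, hzz, mul_one]
  have hkJ : k ∈ centralizer ({u} : Set G) := mem_centralizer_singleton_iff.mpr hku
  have hqN : q ∈ nu u z := h'.V_le_nu hu' huL hq
  have hbN : k * q * k⁻¹ ∈ nu u z := conj_mem_nu hkJ hqN
  have hbW : k * q * k⁻¹ ∈ ws V y := by
    have := conj_mem_ws k hqW
    rwa [hkz] at this
  have h3 := S.nu_comm h hN hu hu' huV hz hz1 hy hy1 hyz hqN hqW hbN hbW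
  -- `[b, q] = β(n, n)`
  have h4 : ⁅k * q * k⁻¹, q⁆ * ⁅q', q⁆⁻¹ ∈ V := by
    have t1 : Tw V z q y (k * q * k⁻¹) := by
      have := h.tw_conj (kq_le_xl hs hs1 hk) z q
      rwa [hkz] at this
    have t2 : Tw V y (k * q * k⁻¹) y q' := h.tw_trans (h.tw_symm t1) htq
    have t3 : Tw V z q z q := (h.tw_self hz hz1 hqW).mpr (by rw [mul_inv_cancel]; exact one_mem _)
    exact h.beta_tw hy hy1 hz hz1 (Ne.symm hyz) hy hy1 hz hz1 (Ne.symm hyz) hbW hqW hq' hqW t2 t3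
  have h5 : ⁅k * q * k⁻¹, q⁆ = ⁅q, k * q * k⁻¹⁆ := h.comm_swap hz hz1 hy hy1 hqW hbW
  have h6 : ⁅q, k * q * k⁻¹⁆ = u := by
    rcases h3 with e1 | e1
    · exfalso
      apply h2
      rw [← commutatorElement_def] at e1
      rw [h5, e1, one_mul] at h4
      have := inv_mem h4
      rwa [inv_inv] at this
    · rw [commutatorElement_def]; exact e1
  rw [h5, h6] at h4
  have := mul_mem (inv_mem hua) h4
  have e1 : (u * ⁅w, w'⁆⁻¹)⁻¹ * (u * ⁅q', q⁆⁻¹) = ⁅w, w'⁆ * ⁅q', q⁆⁻¹ := by group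
  rwa [e1] at this

end One

end Cfsg.Agent.Omega.NO3S.TwoOne
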