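import Mathlib

/-!
# NO-3S, `TwoOne` / `CompP`, `k ≥ 2`, `D_x > I`, planes allowed: section 2 of bb OMEGA #19126, pure form

`H` acts on the elementary abelian 2-group `M`; `L` = the line vectors, `A l`, `I l`, `al l` (`l ∈ L`) the data of
the line `l`: `al l : M → A l` is onto with kernel `Ē_l`, `D̄_l = C_M(A l)`.

* `RR A l` : `R_l = [M, A l]`
* `Hy A al l v` : `v ~ l` (hyperbolic), i.e. `v ∈ Ē_l`, `v ∉ D̄_l`
* `Fld L A I al` : the fields which are used
* `Fld.hy` : `v ~ l`, `v' ~ l`, `φ_v ≠ φ_v'` ⟹ `v ~ v'`  (the result)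
-/

set_option autoImplicit false
set_option linter.unusedSimpArgs false
set_option linter.unusedSectionVars false

namespace Cfsg.Agent.Omega.NO3S.TwoOne.SG2

/-- `R_l = [M, A l]` -/
def RR {M H : Type*} [AddCommGroup M] [Group H] [DistribMulAction H M] (A : M → Subgroup H) (l : M) :
    AddSubgroup M := AddSubgroup.closure {x | ∃ a ∈ A l, ∃ m : M, x = a • m + m}

/-- `v ~ l`: `v ∈ Ē_l`, `v ∉ D̄_l` -/
def Hy {M H : Type*} [AddCommGroup M] [Group H] [DistribMulAction H M] (A : M → Subgroup H) (al : M → M → H)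
    (l v : M) : Prop := al l v = 1 ∧ ∃ a ∈ A l, a • v ≠ v

/-- the fields of section 2 -/
structure Fld {M H : Type*} [AddCommGroup M] [Group H] [DistribMulAction H M] (L : Set M) (A : M → Subgroup H)
    (I : M → AddSubgroup M) (al : M → M → H) : Prop where
  two : ∀ m : M, m + m = 0
  zero : (0 : M) ∉ L
  smul : ∀ (h : H) {l : M}, l ∈ L → h • l ∈ L
  A_conj : ∀ (h : H) {l : M} {a : H}, l ∈ L → a ∈ A l → h * a * h⁻¹ ∈ A (h • l)
  I_conj : ∀ (h : H) {l u : M}, l ∈ L → u ∈ I l → h • u ∈ I (h • l)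
  al_conj : ∀ (h : H) {l : M}, l ∈ L → ∀ m, al (h • l) (h • m) = h * al l m * h⁻¹
  sq : ∀ {l : M} {a : H}, l ∈ L → a ∈ A l → a * a = 1
  self : ∀ {l : M}, l ∈ L → l ∈ I l
  comm : ∀ {l : M} {a : H}, l ∈ L → a ∈ A l → ∀ m : M, a • m + m ∈ I l
  fix : ∀ {l : M} {a : H} {u : M}, l ∈ L → a ∈ A l → u ∈ I l → a • u = u
  al_mem : ∀ {l : M}, l ∈ L → ∀ m, al l m ∈ A l
  al_add : ∀ {l : M}, l ∈ L → ∀ m m', al l (m + m') = al l m * al l m'
  al_surj : ∀ {l : M} {a : H}, l ∈ L → a ∈ A l → ∃ m, al l m = a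
  al_ker : ∀ {l : M}, l ∈ L → ∀ m, al l m = 1 ↔ ∀ a ∈ A l, a • m = m ∨ a • m = m + l
  sy : ∀ {l : M}, l ∈ L → ∀ m m', al l m' • m + m + (al l m • m' + m') = 0 ∨
    al l m' • m + m + (al l m • m' + m') = l
  /-- (0.1) `l ∈ [M, a]` for `1 ≠ a ∈ A l` -/
  phi : ∀ {l : M} {a : H}, l ∈ L → a ∈ A l → a ≠ 1 → ∃ m, a • m = m + l
  /-- (0.3) planes: the third line -/
  pl_add : ∀ {l m : M}, l ∈ L → m ∈ L → m ∈ I l → m ≠ l → l + m ∈ L
  /-- (0.3) planes: the swap -/
  pl_swap : ∀ {l m : M}, l ∈ L → m ∈ L → m ∈ I l → m ≠ l → ∃ h : H, h • l = m ∧ h • m = l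
  /-- (0.3) planes: `α_l(Ī_m)` is isotropic -/
  pl_iso : ∀ {l m : M}, l ∈ L → m ∈ L → m ∈ I l → m ≠ l → ∀ {w w' : M}, w ∈ I m → w' ∈ I m →
    al l w' • w = w ∨ al l w' • w = w + l
  /-- (0.4) some element centralises `A l` and interchanges `j`, `j + l` -/
  kt : ∀ {l j : M}, l ∈ L → j ∈ I l → j ≠ 0 → j ≠ l → ∃ k : H, k • l = l ∧ k • j = j + l ∧
    ∀ a ∈ A l, k * a * k⁻¹ = a
  /-- (0.8) -/
  nsix : ∀ {l m : M}, l ∈ L → m ∈ L → al l m ≠ 1 → ∀ b ∈ A m, al l (b • l + l) = 1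
  /-- (0.8) / (0.9) `S` is symmetric -/
  s_symm : ∀ {l m : M}, l ∈ L → m ∈ L → al l m ≠ 1 → al m l ≠ 1
  /-- (0.9) `~` is symmetric -/
  h_symm : ∀ {l m : M}, l ∈ L → m ∈ L → Hy A al l m → Hy A al m l
  /-- (0.9) `l + m` is a line vector for `l ~ m` -/
  h_add : ∀ {l m : M}, l ∈ L → m ∈ L → Hy A al l m → l + m ∈ L
  /-- (1.1) -/
  tv : ∀ {l v : M} {c : H}, l ∈ L → v ∈ L → Hy A al l v → c ∈ A l → c • v = v → ∃ b ∈ A v, b • l = l ∧
    ∀ a ∈ A l, (a • v = v → b * a * b⁻¹ = a) ∧ (a • v ≠ v → b * a * b⁻¹ = a * c)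
  /-- (1.2) -/
  sep : ∀ {l : M} {c d : H}, l ∈ L → c ∈ A l → d ∈ A l → d ≠ 1 → d ≠ c → ∃ u ∈ L, Hy A al l u ∧
    c • u = u ∧ d • u ≠ u
  /-- (1.3) `β(a, a) = 0` -/
  alt : ∀ {l : M}, l ∈ L → ∀ m : M, al l m • m = m ∨ al l m • m = m + l
  /-- (1.3) `β(a, b) ≠ 0` for independent `a`, `b` -/
  nd : ∀ {l m : M} {b : H}, l ∈ L → b ∈ A l → (b • m = m ∨ b • m = m + l) → al l m = 1 ∨ b = 1 ∨ al l m = b
  /-- (1.4) `[M, b] ∩ D̄_l = [R_l, b]` for `b ∈ A_v ∩ H_l`, `v ~ l` -/
  rk : ∀ {l v m : M} {b : H}, l ∈ L → v ∈ L → Hy A al l v → b ∈ A v → b • l = l →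
    (∀ a ∈ A l, a • (b • m + m) = b • m + m) → ∃ r ∈ RR A l, b • m + m = b • r + r

namespace Fld

variable {M H : Type*} [AddCommGroup M] [Group H] [DistribMulAction H M] {L : Set M} {A : M → Subgroup H}
    {I : M → AddSubgroup M} {al : M → M → H}

section

variable (G : Fld L A I al)
include G

theorem tl (x y : M) : x + (x + y) = y := by
  rw [← add_assoc, G.two, zero_add]

theorem inv {l : M} {a : H} (hl : l ∈ L) (ha : a ∈ A l) : a⁻¹ = a :=
  inv_eq_of_mul_eq_one_left (G.sq hl ha)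

theorem A_comm {l : M} {a b : H} (hl : l ∈ L) (ha : a ∈ A l) (hb : b ∈ A l) : a * b = b * a := by
  have h := G.sq hl (mul_mem ha hb)
  calc a * b = (a * b)⁻¹ := (inv_eq_of_mul_eq_one_left h).symm
    _ = b * a := by rw [mul_inv_rev, G.inv hl ha, G.inv hl hb]

theorem al_self {l u : M} (hl : l ∈ L) (hu : u ∈ I l) : al l u = 1 :=
  (G.al_ker hl u).2 fun _ ha => Or.inl (G.fix hl ha hu)

theorem A_fix {l : M} {a : H} (hl : l ∈ L) (ha : a ∈ A l) : a • l = l := G.fix hl ha (G.self hl)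

theorem ne_zero {l : M} (hl : l ∈ L) : l ≠ 0 := fun h => G.zero (h ▸ hl)

/-- `x + y ∈ {0, l}` as `x = y ∨ x = y + l` -/
theorem eq_or {l x y : M} : (x + y = 0 ∨ x + y = l) ↔ (x = y ∨ x = y + l) := by
  constructor
  · rintro (h | h)
    · left
      calc x = y + (y + x) := (G.tl y x).symm
        _ = y := by rw [add_comm y x, h, add_zero]
    · right
      calc x = y + (y + x) := (G.tl y x).symm
        _ = y + l := by rw [add_comm y x, h]
  · rintro (h | h)
    · left; rw [h, G.two]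
    · right; rw [h, add_comm y l, add_assoc, G.two, add_zero]

/-- the two alternatives `x ∈ {0, l}` are closed under addition -/
theorem z_add {l x y : M} (hx : x = 0 ∨ x = l) (hy : y = 0 ∨ y = l) : x + y = 0 ∨ x + y = l := by
  rcases hx with rfl | rfl <;> rcases hy with rfl | rfl
  · left; rw [add_zero]
  · right; rw [zero_add]
  · right; rw [add_zero]
  · left; exact G.two _

/-- `[m, a]` is additive in `a` -/
theorem br_mul {l m : M} {a b : H} (hl : l ∈ L) (ha : a ∈ A l) (hb : b ∈ A l) :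
    (a * b) • m + m = (a • m + m) + (b • m + m) := by
  have h := G.fix hl ha (G.comm hl hb m)
  rw [smul_add] at h
  rw [mul_smul]
  calc a • b • m + m = (a • b • m + a • m) + (a • m + m) := by
        rw [add_assoc, G.tl]
    _ = (a • m + m) + (b • m + m) := by rw [h, add_comm]

omit G in
/-- `[m, a]` is additive in `m` -/
theorem br_add (a : H) (m m' : M) : a • (m + m') + (m + m') = (a • m + m) + (a • m' + m') := by
  rw [smul_add]; abel

/-- `[m, a] mod l` depends only on `al l m` -/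
theorem br_al {l m m' : M} {a : H} (hl : l ∈ L) (ha : a ∈ A l) (h : al l m = al l m') :
    (a • m + m) + (a • m' + m') = 0 ∨ (a • m + m) + (a • m' + m') = l := by
  have h1 : al l (m + m') = 1 := by
    rw [G.al_add hl, h]; exact G.sq hl (G.al_mem hl m')
  rw [← br_add, G.eq_or]
  exact (G.al_ker hl _).1 h1 a ha

end

section

variable (G : Fld L A I al)
include G

theorem RR_le {l : M} (hl : l ∈ L) : RR A l ≤ I l := by
  refine (AddSubgroup.closure_le _).2 ?_
  rintro x ⟨a, ha, m, rfl⟩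
  exact G.comm hl ha m

omit G in
theorem mem_RR {l : M} {a : H} (ha : a ∈ A l) (m : M) : a • m + m ∈ RR A l :=
  AddSubgroup.subset_closure ⟨a, ha, m, rfl⟩

theorem RR_conj {l : M} (h : H) (hl : l ∈ L) {r : M} (hr : r ∈ RR A l) : h • r ∈ RR A (h • l) := by
  induction hr using AddSubgroup.closure_induction with
  | mem x hx =>
    obtain ⟨a, ha, m, rfl⟩ := hx
    have := mem_RR (G.A_conj h hl ha) (h • m)
    rw [smul_smul] at this
    have e : h * a * h⁻¹ * h = h * a := by group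
    rw [e, mul_smul, ← smul_add] at this
    exact this
  | zero => rw [smul_zero]; exact zero_mem _
  | add x y _ _ hx hy => rw [smul_add]; exact add_mem hx hy
  | neg x _ hx => rw [smul_neg]; exact neg_mem hx

/-- the trichotomy, in the form used here -/
theorem hy_of {v w : M} (hv : v ∈ L) (hw : w ∈ L) {b : H} (hb : b ∈ A w) (hbv : b • v ≠ v)
    (h : al v w = 1) : Hy A al v w := by
  have h1 : al w v = 1 := by
    by_contra hne
    exact G.s_symm hw hv hne h
  exact G.h_symm hw hv ⟨h1, b, hb, hbv⟩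

/-- for `v ~ l` and `a ∈ A l`: `[v, a] = 0` or `l` -/
theorem hy_smul {l v : M} {a : H} (hl : l ∈ L) (h : Hy A al l v) (ha : a ∈ A l) : a • v = v ∨ a • v = v + l :=
  (G.al_ker hl v).1 h.1 a ha

/-- the functional `φ_v` is additive: `[v, a a'] = [v, a] + [v, a']` -/
theorem hy_mul {l v : M} {a b : H} (hl : l ∈ L) (h : Hy A al l v) (ha : a ∈ A l) (hb : b ∈ A l) :
    (a * b) • v = v ↔ (a • v = v ↔ b • v = v) := by
  have hl0 := G.ne_zero hl
  have hal := G.A_fix hl ha
  have key : v + l ≠ v := fun e => hl0 (add_eq_left.1 e)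
  rcases G.hy_smul hl h ha with h1 | h1 <;> rcases G.hy_smul hl h hb with h2 | h2
  · simp [mul_smul, h2, h1]
  · simp only [mul_smul, h2, h1, smul_add, hal, true_iff]
  · simp only [mul_smul, h2, h1, iff_true]
  · simp only [mul_smul, h2, h1, smul_add, hal, key, iff_false, not_false_eq_true, iff_true, add_assoc, G.two,
      add_zero]

/-- `φ_v ≠ φ_v'` ⟹ some `c'` with `φ_v(c') = 1`, `φ_v'(c') = 0` -/
theorem exists_c {l v v' : M} (hl : l ∈ L) (hv : Hy A al l v) (hv' : Hy A al l v')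
    (hne : ∃ a ∈ A l, ¬ (a • v = v ↔ a • v' = v')) : ∃ c ∈ A l, c • v ≠ v ∧ c • v' = v' := by
  obtain ⟨a, ha, h⟩ := hne
  by_cases h1 : a • v = v
  · have h2 : a • v' ≠ v' := fun h2 => h ⟨fun _ => h2, fun _ => h1⟩
    obtain ⟨x, hx, hxv⟩ := hv.2
    by_cases h3 : x • v' = v'
    · exact ⟨x, hx, hxv, h3⟩
    · refine ⟨a * x, mul_mem ha hx, ?_, ?_⟩
      · rw [Ne, G.hy_mul hl hv ha hx]
        exact fun e => hxv (e.1 h1)
      · rw [G.hy_mul hl hv' ha hx]
        exact ⟨fun e => absurd e h2, fun e => absurd e h3⟩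
  · have h2 : a • v' = v' := by
      by_contra h2
      exact h ⟨fun e => absurd e h1, fun e => absurd e h2⟩
    exact ⟨a, ha, h1, h2⟩

omit G in
/-- the functional of `b' • v` -/
theorem phi_smul {v : M} {b : H} (hbb : b * b = 1) (a : H) :
    a • b • v = b • v ↔ (b * a * b⁻¹) • v = v := by
  have hb' : b⁻¹ = b := inv_eq_of_mul_eq_one_left hbb
  rw [hb', mul_smul, mul_smul]
  constructor
  · intro h
    rw [h, smul_smul, hbb, one_smul]
  · intro h
    have := congrArg (fun m => b • m) h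
    simpa only [smul_smul, ← mul_assoc, hbb, one_mul] using this

end

/-- the data of section 2: `v ~ l`, `v' ~ l`, `c, c' ∈ A l` with `φ_v(c) = 0`, `φ_v'(c) = 1`, `φ_v(c') = 1`,
`φ_v'(c') = 0`, and the transvections `b`, `b'` of (1.1) -/
structure Two (L : Set M) (A : M → Subgroup H) (al : M → M → H) (l v v' : M) (c c' b b' : H) : Prop where
  lL : l ∈ L
  vL : v ∈ L
  vL' : v' ∈ L
  h : Hy A al l v
  h' : Hy A al l v'
  cA : c ∈ A l
  cA' : c' ∈ A l
  cv : c • v = v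
  cv' : c • v' ≠ v'
  dv : c' • v ≠ v
  dv' : c' • v' = v'
  bA : b ∈ A v
  bA' : b' ∈ A v'
  bl : b • l = l
  bl' : b' • l = l
  tv : ∀ a ∈ A l, (a • v = v → b * a * b⁻¹ = a) ∧ (a • v ≠ v → b * a * b⁻¹ = a * c)
  tv' : ∀ a ∈ A l, (a • v' = v' → b' * a * b'⁻¹ = a) ∧ (a • v' ≠ v' → b' * a * b'⁻¹ = a * c')

theorem exists_two (G : Fld L A I al) {l v v' : M} (hl : l ∈ L) (hvL : v ∈ L) (hvL' : v' ∈ L)
    (hv : Hy A al l v) (hv' : Hy A al l v')
    (hne : ∃ a ∈ A l, ¬ (a • v = v ↔ a • v' = v')) : ∃ c c' b b', Two L A al l v v' c c' b b' := by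
  obtain ⟨c', hc', h1, h2⟩ := G.exists_c hl hv hv' hne
  obtain ⟨c, hc, h3, h4⟩ := G.exists_c hl hv' hv (by
    obtain ⟨a, ha, h⟩ := hne
    exact ⟨a, ha, fun e => h e.symm⟩)
  obtain ⟨b, hb, hbl, htv⟩ := G.tv hl hvL hv hc h4
  obtain ⟨b', hb', hbl', htv'⟩ := G.tv hl hvL' hv' hc' h2
  exact ⟨c, c', b, b', ⟨hl, hvL, hvL', hv, hv', hc, hc', h4, h3, h1, h2, hb, hb', hbl, hbl', htv, htv'⟩⟩

section two

variable (G : Fld L A I al) {l v v' : M} {c c' b b' : H} (T : Two L A al l v v' c c' b b')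
include G T

theorem sqb : b * b = 1 := G.sq T.vL T.bA

theorem sqb' : b' * b' = 1 := G.sq T.vL' T.bA'

theorem invb' : b'⁻¹ = b' := G.inv T.vL' T.bA'

/-- conjugation by `b b'` has order 3 on `⟨c, c'⟩` -/
theorem cyc : b * (b' * c * b'⁻¹) * b⁻¹ = c' ∧ b * (b' * c' * b'⁻¹) * b⁻¹ = c * c' := by
  have h1 : b' * c * b'⁻¹ = c * c' := (T.tv' c T.cA).2 T.cv'
  have h2 : b * c * b⁻¹ = c := (T.tv c T.cA).1 T.cv
  have h3 : b' * c' * b'⁻¹ = c' := (T.tv' c' T.cA').1 T.dv'
  have h4 : b * c' * b⁻¹ = c' * c := (T.tv c' T.cA').2 T.dv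
  constructor
  · rw [h1]
    calc b * (c * c') * b⁻¹ = (b * c * b⁻¹) * (b * c' * b⁻¹) := by group
      _ = c * (c' * c) := by rw [h2, h4]
      _ = c' := by rw [G.A_comm T.lL T.cA' T.cA, ← mul_assoc, G.sq T.lL T.cA, one_mul]
  · rw [h3, h4, G.A_comm T.lL T.cA' T.cA]

theorem c_ne : c ≠ c' := fun e => T.dv (e ▸ T.cv)

theorem c'_ne_one : c' ≠ 1 := fun e => T.dv (by rw [e, one_smul])

/-- `(b b')^8 ≠ 1` -/
theorem pow_ne : (b * b') ^ 8 ≠ 1 := by
  intro h8
  obtain ⟨h1, h2⟩ := cyc G T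
  set g := b * b' with hg
  have e1 : g * c * g⁻¹ = c' := by rw [hg, ← h1]; group
  have e2 : g * c' * g⁻¹ = c * c' := by rw [hg, ← h2]; group
  have e3 : g ^ 3 * c * (g ^ 3)⁻¹ = c := by
    have e : g ^ 3 = g * g * g := by rw [pow_succ, pow_two]
    rw [e]
    calc g * g * g * c * (g * g * g)⁻¹ = g * (g * (g * c * g⁻¹) * g⁻¹) * g⁻¹ := by group
      _ = g * (c * c') * g⁻¹ := by rw [e1, e2]
      _ = (g * c * g⁻¹) * (g * c' * g⁻¹) := by group
      _ = c' * (c * c') := by rw [e1, e2]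
      _ = c := by rw [G.A_comm T.lL T.cA T.cA', ← mul_assoc, G.sq T.lL T.cA', one_mul]
  have e9 : g ^ 9 * c * (g ^ 9)⁻¹ = c := by
    have e : g ^ 9 = g ^ 3 * g ^ 3 * g ^ 3 := by rw [← pow_add, ← pow_add]
    rw [e]
    calc g ^ 3 * g ^ 3 * g ^ 3 * c * (g ^ 3 * g ^ 3 * g ^ 3)⁻¹ =
          g ^ 3 * (g ^ 3 * (g ^ 3 * c * (g ^ 3)⁻¹) * (g ^ 3)⁻¹) * (g ^ 3)⁻¹ := by
            simp only [mul_inv_rev, mul_assoc]
      _ = c := by rw [e3, e3, e3]
  rw [show (9 : ℕ) = 8 + 1 from rfl, pow_succ, h8, one_mul, e1] at e9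
  exact c_ne G T e9.symm

/-- `κ = [v, b'] ≠ 0`, i.e. `b' • v ≠ v` -/
theorem bv_ne : b' • v ≠ v := by
  intro h
  have h1 := (phi_smul (v := v) (sqb' G T) c).2
  rw [(T.tv' c T.cA).2 T.cv'] at h1
  -- `c • v = v`, but `(c c') • v ≠ v`
  have h2 : (c * c') • v ≠ v := by
    rw [Ne, G.hy_mul T.lL T.h T.cA T.cA']
    exact fun e => T.dv (e.1 T.cv)
  have h3 := (phi_smul (v := v) (sqb' G T) c).1 (by rw [h]; exact T.cv)
  rw [(T.tv' c T.cA).2 T.cv'] at h3
  exact h2 h3

/-- `al v (b' • v) = 1` is impossible together with `b' • v ∈ D̄_v` -/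
theorem not_comm (h : ∀ a ∈ A v, a • b' • v = b' • v) : False := by
  apply pow_ne G T
  set w := b' • v with hw
  have hg : b' * b * b'⁻¹ ∈ A w := G.A_conj b' T.vL T.bA
  set g := b' * b * b'⁻¹ with hgd
  have hwL : w ∈ L := G.smul b' T.vL
  have h1 : b * g * b⁻¹ ∈ A w := by
    have := G.A_conj b hwL hg
    rwa [h b T.bA] at this
  have h2 : (b * b') ^ 2 = b * g := by
    rw [hgd, invb' G T, pow_two]; group
  have h3 : (b * g) ^ 2 ∈ A w := by
    have e : (b * g) ^ 2 = (b * g * b⁻¹) * g := by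
      calc (b * g) ^ 2 = b * g * (b * b) * b⁻¹ * g := by rw [pow_two]; group
        _ = (b * g * b⁻¹) * g := by rw [sqb G T, mul_one]
    rw [e]; exact mul_mem h1 hg
  have h4 : ((b * g) ^ 2) * ((b * g) ^ 2) = 1 := G.sq hwL h3
  calc (b * b') ^ 8 = ((b * b') ^ 2) ^ 4 := by rw [← pow_mul]
    _ = (b * g) ^ 4 := by rw [h2]
    _ = ((b * g) ^ 2) * ((b * g) ^ 2) := by rw [← pow_add]
    _ = 1 := h4

/-- (2.1) `[κ + v', A l] = 0` for `κ = b' • v + v` -/
theorem j_fix {a : H} (ha : a ∈ A l) : a • (b' • v + v + v') = b' • v + v + v' := by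
  have h0 := G.al_add T.lL
  -- `b' • v ~ l` with the functional `φ + φ'`
  have hw : Hy A al l (b' • v) := by
    refine ⟨?_, ?_⟩
    · have := G.al_conj b' T.lL v
      rw [T.bl', T.h.1, mul_one, mul_inv_cancel] at this
      exact this
    · obtain ⟨x, hx, hxv⟩ := T.h.2
      refine ⟨b' * x * b'⁻¹, ?_, ?_⟩
      · have := G.A_conj b' T.lL hx
        rwa [T.bl'] at this
      · rw [mul_smul, inv_smul_smul, mul_smul]
        exact fun e => hxv (smul_left_cancel b' e)
  have hφ : (a • b' • v = b' • v) ↔ ((a • v = v) ↔ (a • v' = v')) := by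
    rw [phi_smul (sqb' G T) a]
    by_cases h1 : a • v' = v'
    · rw [(T.tv' a ha).1 h1]
      simp [h1]
    · rw [(T.tv' a ha).2 h1, G.hy_mul T.lL T.h ha T.cA']
      simp [h1, T.dv]
  have h1 := G.hy_smul T.lL hw ha
  have h2 := G.hy_smul T.lL T.h ha
  have h3 := G.hy_smul T.lL T.h' ha
  have hne : ∀ x : M, x + l ≠ x := fun x e => G.ne_zero T.lL (add_eq_left.1 e)
  have key : ∀ x y w : M, (x + l) + (y + l) + w = x + y + w := by
    intro x y w
    calc (x + l) + (y + l) + w = x + y + w + (l + l) := by abel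
      _ = x + y + w := by rw [G.two, add_zero]
  rw [smul_add, smul_add]
  rcases h2 with h2 | h2 <;> rcases h3 with h3 | h3
  · rw [h2, h3, hφ.2 ⟨fun _ => h3, fun _ => h2⟩]
  · have h4 : a • b' • v = b' • v + l := h1.resolve_left fun e => by
      have := (hφ.1 e).1 h2
      rw [h3] at this
      exact hne _ this
    rw [h2, h3, h4]
    calc b' • v + l + v + (v' + l) = b' • v + v + v' + (l + l) := by abel
      _ = b' • v + v + v' := by rw [G.two, add_zero]
  · have h4 : a • b' • v = b' • v + l := h1.resolve_left fun e => by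
      have := (hφ.1 e).2 h3
      rw [h2] at this
      exact hne _ this
    rw [h2, h3, h4, key]
  · have h4 : a • b' • v = b' • v := hφ.2 ⟨fun e => absurd (h2 ▸ e) (hne _), fun e => absurd (h3 ▸ e) (hne _)⟩
    rw [h2, h3, h4]
    calc b' • v + (v + l) + (v' + l) = b' • v + v + v' + (l + l) := by abel
      _ = b' • v + v + v' := by rw [G.two, add_zero]

/-- (2.2) the plane on `v'`: `κ ∈ L`, `j = κ + v' ∈ L ∩ R_v'`, `j ∉ {0, l}` -/
theorem plane (hS : al v v' ≠ 1) : (b' • v + v ∈ L) ∧ (b' • v + v ∈ I v') ∧ (b' • v + v ≠ v') ∧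
    (b' • v + v + v' ∈ L) ∧ (b' • v + v + v' ∈ RR A v') ∧ (b' • v + v + v' ≠ v') ∧ (b' • v + v + v' ≠ l) := by
  have hκ0 : b' • v + v ≠ 0 := fun e => bv_ne G T (by
    calc b' • v = b' • v + (v + v) := by rw [G.two, add_zero]
      _ = v := by rw [← add_assoc, e, zero_add])
  have h1 : al v (b' • v + v) = 1 := G.nsix T.vL T.vL' hS b' T.bA'
  have h2 : al v (b' • v) = 1 := by
    have e : b' • v = (b' • v + v) + v := by rw [add_assoc, G.two, add_zero]
    rw [e, G.al_add T.vL, h1, one_mul]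
    exact G.al_self T.vL (G.self T.vL)
  have hwL : b' • v ∈ L := G.smul b' T.vL
  have h3 : Hy A al v (b' • v) := by
    refine ⟨h2, ?_⟩
    by_contra hcon
    push Not at hcon
    exact not_comm G T hcon
  have hκL : b' • v + v ∈ L := by
    rw [add_comm]
    exact G.h_add T.vL hwL h3
  have hκI : b' • v + v ∈ I v' := G.comm T.vL' T.bA' v
  have hκne : b' • v + v ≠ v' := fun e => hS (e ▸ h1)
  have hjL : b' • v + v + v' ∈ L := by
    rw [add_comm]
    exact G.pl_add T.vL' hκL hκI hκne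
  have hb1 : b' ≠ 1 := fun e => bv_ne G T (by rw [e, one_smul])
  obtain ⟨m, hm⟩ := G.phi T.vL' T.bA' hb1
  have hv'R : v' ∈ RR A v' := by
    have := mem_RR (A := A) T.bA' m
    rwa [hm, add_comm, G.tl] at this
  have hjR : b' • v + v + v' ∈ RR A v' := add_mem (mem_RR T.bA' v) hv'R
  have hjv : b' • v + v + v' ≠ v' := fun e => hκ0 (add_eq_right.1 e)
  refine ⟨hκL, hκI, hκne, hjL, hjR, hjv, ?_⟩
  intro e
  have h4 : l ∈ I v' := e ▸ (G.RR_le T.vL' hjR)
  obtain ⟨-, a, ha, hal⟩ := G.h_symm T.lL T.vL' T.h'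
  exact hal (G.fix T.vL' ha h4)

/-- (2.2) `j = [r, b']` with `r ∈ R_l` -/
theorem j_eq : ∃ r ∈ RR A l, b' • v + v + v' = b' • r + r := by
  have hb1 : b' ≠ 1 := fun e => bv_ne G T (by rw [e, one_smul])
  obtain ⟨m, hm⟩ := G.phi T.vL' T.bA' hb1
  have e : b' • (v + m) + (v + m) = b' • v + v + v' := by
    rw [br_add, hm]
    calc b' • v + v + (m + v' + m) = b' • v + v + v' + (m + m) := by abel
      _ = b' • v + v + v' := by rw [G.two, add_zero]
  obtain ⟨r, hr, h⟩ := G.rk (m := v + m) T.lL T.vL' T.h' T.bA' T.bl' (fun a ha => by rw [e]; exact j_fix G T ha)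
  exact ⟨r, hr, by rw [← e]; exact h⟩

/-- (2.2) the class of `j` is `β(c', a₁)`, `φ_v'(a₁) = 0` -/
theorem cls {m' : M} (hm' : al l m' = c') {r : M} (hr : r ∈ RR A l) : ∃ a ∈ A l, a • v' = v' ∧
    (b' • r + r = a • m' + m' ∨ b' • r + r = a • m' + m' + l) := by
  induction hr using AddSubgroup.closure_induction with
  | mem x hx =>
    obtain ⟨a, ha, m, rfl⟩ := hx
    set x := al l m with hx
    have hxA : x ∈ A l := G.al_mem T.lL m
    have hbm : al l (b' • m) = b' * x * b'⁻¹ := by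
      have := G.al_conj b' T.lL m
      rwa [T.bl'] at this
    -- `b' • [m, a] = [b' m, b' a b'⁻¹]`
    have h0 : b' • (a • m + m) + (a • m + m) =
        ((b' * a * b'⁻¹) • (b' • m) + b' • m) + (a • m + m) := by
      rw [smul_add, mul_smul, mul_smul, inv_smul_smul]
    rw [h0]
    by_cases h1 : x • v' = v' <;> by_cases h2 : a • v' = v'
    · refine ⟨1, one_mem _, one_smul _ _, ?_⟩
      rw [(T.tv' a ha).1 h2, one_smul, G.two, zero_add]
      exact G.br_al T.lL ha (by rw [hbm, (T.tv' x hxA).1 h1])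
    · refine ⟨x, hxA, h1, ?_⟩
      have h3 : b' * a * b'⁻¹ = a * c' := (T.tv' a ha).2 h2
      have h4 := G.br_al (m := b' • m) (m' := m) T.lL (mul_mem ha T.cA') (by rw [hbm, (T.tv' x hxA).1 h1])
      rw [h3]
      have h5 : (a * c') • m + m = (a • m + m) + (c' • m + m) := G.br_mul T.lL ha T.cA'
      have h6 := G.sy T.lL m m'
      rw [← hx, hm'] at h6
      -- everything modulo `l`
      rw [← G.eq_or]
      have h7 := G.z_add h4 h6
      rw [h5] at h7
      have e : ((a * c') • b' • m + b' • m + (a • m + m + (c' • m + m)) + (c' • m + m + (x • m' + m'))) =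
          ((a * c') • b' • m + b' • m + (a • m + m) + (x • m' + m')) := by
        calc _ = ((a * c') • b' • m + b' • m + (a • m + m) + (x • m' + m')) + ((c' • m + m) + (c' • m + m)) := by abel
          _ = _ := by rw [G.two, add_zero]
      rwa [e] at h7
    · refine ⟨a, ha, h2, ?_⟩
      have h3 : b' * a * b'⁻¹ = a := (T.tv' a ha).1 h2
      rw [h3, ← br_add, ← G.eq_or]
      refine G.br_al T.lL ha ?_
      rw [G.al_add T.lL, hbm, (T.tv' x hxA).2 h1, ← hx, hm', G.A_comm T.lL hxA T.cA', mul_assoc, G.sq T.lL hxA,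
        mul_one]
    · refine ⟨a * x, mul_mem ha hxA, ?_, ?_⟩
      · rw [G.hy_mul T.lL T.h' ha hxA]
        exact ⟨fun e => absurd e h2, fun e => absurd e h1⟩
      · have h3 : b' * a * b'⁻¹ = a * c' := (T.tv' a ha).2 h2
        rw [h3, ← G.eq_or]
        -- `[b' m, a c'] ≡ [m + m', a c']`
        have h4 := G.br_al (m := b' • m) (m' := m + m') T.lL (mul_mem ha T.cA')
          (by rw [hbm, (T.tv' x hxA).2 h1, G.al_add T.lL, ← hx, hm'])
        have h5 := G.br_mul (m := m) T.lL ha T.cA'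
        have h5' := G.br_mul (m := m') T.lL ha T.cA'
        have h6 := G.sy T.lL m m'
        rw [← hx, hm'] at h6
        have h7 : c' • m' + m' = 0 ∨ c' • m' + m' = l := by
          have := G.alt T.lL m'
          rw [hm'] at this
          rcases this with h | h
          · left; rw [h, G.two]
          · right; rw [h, add_comm m' l, add_assoc, G.two, add_zero]
        have h8 := G.br_mul (m := m') T.lL ha hxA
        have h9 := G.z_add (G.z_add h4 h6) h7
        rw [br_add, h5, h5'] at h9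
        rw [h8]
        have e : ((a * c') • b' • m + b' • m + (a • m + m + (c' • m + m) + (a • m' + m' + (c' • m' + m'))) +
            (c' • m + m + (x • m' + m')) + (c' • m' + m')) =
            ((a * c') • b' • m + b' • m + (a • m + m) + (a • m' + m' + (x • m' + m'))) := by
          calc _ = ((a * c') • b' • m + b' • m + (a • m + m) + (a • m' + m' + (x • m' + m'))) +
                ((c' • m + m) + (c' • m + m)) + ((c' • m' + m') + (c' • m' + m')) := by abel
            _ = _ := by rw [G.two, G.two, add_zero, add_zero]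
        rwa [e] at h9
  | zero =>
    refine ⟨1, one_mem _, one_smul _ _, ?_⟩
    left
    rw [smul_zero, one_smul, G.two m', add_zero]
  | add x y _ _ hx hy =>
    obtain ⟨a, ha, hav, h1⟩ := hx
    obtain ⟨a', ha', hav', h2⟩ := hy
    refine ⟨a * a', mul_mem ha ha', by rw [mul_smul, hav', hav], ?_⟩
    rw [← G.eq_or] at h1 h2 ⊢
    rw [br_add, G.br_mul T.lL ha ha']
    have h3 := G.z_add h1 h2
    have e : b' • x + x + (a • m' + m') + (b' • y + y + (a' • m' + m')) =
        b' • x + x + (b' • y + y) + (a • m' + m' + (a' • m' + m')) := by abel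
    rwa [e] at h3
  | neg x _ hx =>
    have e : -x = x := neg_eq_of_add_eq_zero_left (G.two x)
    rw [e]; exact hx

/-- (2.2) `g ∈ H_l` with `[c', a₁]^g = [c', a₁]` (mod `l`) which moves `d` -/
theorem exists_g {m' : M} {a₁ d : H} (hm' : al l m' = c') (ha₁ : a₁ ∈ A l)
    (h1 : ¬ (a₁ • m' + m' = 0 ∨ a₁ • m' + m' = l)) (hd : d ∈ A l) (hd1 : d ≠ 1) :
    ∃ g : H, g • l = l ∧ g * d * g⁻¹ ≠ d ∧
      (g • (a₁ • m' + m') + (a₁ • m' + m') = 0 ∨ g • (a₁ • m' + m') + (a₁ • m' + m') = l) := by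
  have ha1 : a₁ ≠ 1 := by
    rintro rfl
    exact h1 (Or.inl (by rw [one_smul, G.two]))
  have halt : ∀ m : M, al l m • m + m = 0 ∨ al l m • m + m = l := fun m => by
    rw [G.eq_or]; exact G.alt T.lL m
  have hac : a₁ ≠ c' := by
    rintro rfl
    apply h1
    have := halt m'
    rwa [hm'] at this
  have hgb : ∀ g : H, g • (a₁ • m' + m') = (g * a₁ * g⁻¹) • (g • m') + g • m' := by
    intro g
    rw [smul_add, mul_smul, mul_smul, inv_smul_smul]
  by_cases hdc : d = c'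
  · subst hdc
    obtain ⟨u, huL, hu, h2, h3⟩ := G.sep T.lL ha₁ hd hd1 (Ne.symm hac)
    obtain ⟨g, -, hgl, htv⟩ := G.tv T.lL huL hu ha₁ h2
    have e1 : g * a₁ * g⁻¹ = a₁ := (htv a₁ ha₁).1 h2
    have e2 : g * d * g⁻¹ = d * a₁ := (htv d hd).2 h3
    refine ⟨g, hgl, ?_, ?_⟩
    · rw [e2]
      exact fun e => ha1 (mul_eq_left.1 e)
    · rw [hgb, e1]
      obtain ⟨m₁, hm₁⟩ := G.al_surj T.lL ha₁
      have h4 := G.br_al (m := g • m') (m' := m' + m₁) T.lL ha₁ (by
        have := G.al_conj g T.lL m'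
        rw [hgl, hm', e2] at this
        rw [this, G.al_add T.lL, hm', hm₁])
      have h5 := halt m₁
      rw [hm₁] at h5
      have h6 := G.z_add h4 h5
      rw [br_add] at h6
      have e : a₁ • g • m' + g • m' + (a₁ • m' + m' + (a₁ • m₁ + m₁)) + (a₁ • m₁ + m₁) =
          a₁ • g • m' + g • m' + (a₁ • m' + m') := by
        calc _ = a₁ • g • m' + g • m' + (a₁ • m' + m') + ((a₁ • m₁ + m₁) + (a₁ • m₁ + m₁)) := by abel
          _ = _ := by rw [G.two, add_zero]
      rwa [e] at h6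
  · obtain ⟨u, huL, hu, h2, h3⟩ := G.sep T.lL T.cA' hd hd1 hdc
    obtain ⟨g, -, hgl, htv⟩ := G.tv T.lL huL hu T.cA' h2
    have e1 : g * c' * g⁻¹ = c' := (htv c' T.cA').1 h2
    have e2 : g * d * g⁻¹ = d * c' := (htv d hd).2 h3
    have hgm : al l (g • m') = al l m' := by
      have := G.al_conj g T.lL m'
      rw [hgl, hm', e1] at this
      rw [this, hm']
    refine ⟨g, hgl, ?_, ?_⟩
    · rw [e2]
      exact fun e => c'_ne_one G T (mul_eq_left.1 e)
    · rw [hgb]
      by_cases h4 : a₁ • u = u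
      · rw [(htv a₁ ha₁).1 h4]
        exact G.br_al T.lL ha₁ hgm
      · rw [(htv a₁ ha₁).2 h4]
        have h5 := G.br_al (m := g • m') (m' := m') T.lL (mul_mem ha₁ T.cA') hgm
        have h6 := halt m'
        rw [hm'] at h6
        rw [G.br_mul (m := m') T.lL ha₁ T.cA'] at h5
        have h7 := G.z_add h5 h6
        have e : (a₁ * c') • g • m' + g • m' + (a₁ • m' + m' + (c' • m' + m')) + (c' • m' + m') =
            (a₁ * c') • g • m' + g • m' + (a₁ • m' + m') := by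
          calc _ = (a₁ * c') • g • m' + g • m' + (a₁ • m' + m') + ((c' • m' + m') + (c' • m' + m')) := by abel
            _ = _ := by rw [G.two, add_zero]
        rwa [e] at h7

/-- (2.2) `(v, v')` is not an `S`-pair -/
theorem not_S (hS : al v v' ≠ 1) : False := by
  obtain ⟨-, -, -, hjL, hjR', hjv, hjl⟩ := plane G T hS
  obtain ⟨r, hr, hjr⟩ := j_eq G T
  obtain ⟨m', hm'⟩ := G.al_surj T.lL T.cA'
  obtain ⟨a₁, ha₁, -, hcl⟩ := cls G T hm' hr
  rw [← hjr] at hcl
  have hbr : b' • r ∈ RR A l := by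
    have := G.RR_conj b' T.lL hr
    rwa [T.bl'] at this
  have hjR : b' • v + v + v' ∈ RR A l := by rw [hjr]; exact add_mem hbr hr
  set j := b' • v + v + v' with hj
  have hjI : j ∈ I l := G.RR_le T.lL hjR
  have hjI' : j ∈ I v' := G.RR_le T.vL' hjR'
  have hj0 : j ≠ 0 := G.ne_zero hjL
  have hcl' : j + (a₁ • m' + m') = 0 ∨ j + (a₁ • m' + m') = l := G.eq_or.2 hcl
  -- `Ī_j ≤ Ē_l`
  have hD : ∀ u ∈ I j, al l u = 1 := by
    intro u hu
    by_contra hd1
    set d := al l u with hd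
    have hdA : d ∈ A l := G.al_mem T.lL u
    have h1 : ¬ (a₁ • m' + m' = 0 ∨ a₁ • m' + m' = l) := by
      rintro (h | h)
      · rcases hcl with e | e
        · exact hj0 (e.trans h)
        · rw [h, zero_add] at e
          exact hjl e
      · rcases hcl with e | e
        · exact hjl (e.trans h)
        · rw [h, G.two] at e
          exact hj0 e
    obtain ⟨g, hgl, hgd, hg⟩ := exists_g G T hm' ha₁ h1 hdA hd1
    -- `g • j = j` or `j + l`
    have hgj : g • j + j = 0 ∨ g • j + j = l := by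
      have hc2 : g • j + g • (a₁ • m' + m') = 0 ∨ g • j + g • (a₁ • m' + m') = l := by
        rw [← smul_add]
        rcases hcl' with e | e
        · left; rw [e, smul_zero]
        · right; rw [e, hgl]
      have := G.z_add (G.z_add hc2 hg) hcl'
      have e : g • j + g • (a₁ • m' + m') + (g • (a₁ • m' + m') + (a₁ • m' + m')) + (j + (a₁ • m' + m')) =
          g • j + j := by
        calc _ = g • j + j + (g • (a₁ • m' + m') + g • (a₁ • m' + m')) + ((a₁ • m' + m') + (a₁ • m' + m')) := by abel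
          _ = _ := by rw [G.two, G.two, add_zero, add_zero]
      rwa [e] at this
    have : ∃ g' : H, g' • l = l ∧ g' • j = j ∧ g' * d * g'⁻¹ ≠ d := by
      rcases G.eq_or.1 hgj with h2 | h2
      · exact ⟨g, hgl, h2, hgd⟩
      · obtain ⟨k, hkl, hkj, hk⟩ := G.kt T.lL hjI hj0 hjl
        have hgdA : g * d * g⁻¹ ∈ A l := by
          have := G.A_conj g T.lL hdA
          rwa [hgl] at this
        refine ⟨k * g, by rw [mul_smul, hgl, hkl], ?_, ?_⟩
        · rw [mul_smul, h2, smul_add, hkj, hkl, add_assoc, G.two, add_zero]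
        · have e : k * g * d * (k * g)⁻¹ = k * (g * d * g⁻¹) * k⁻¹ := by group
          rw [e, hk _ hgdA]
          exact hgd
    obtain ⟨g', hg'l, hg'j, hg'd⟩ := this
    have hu' : g' • u ∈ I j := by
      have := G.I_conj g' hjL hu
      rwa [hg'j] at this
    have hal : al l (g' • u) = g' * d * g'⁻¹ := by
      have := G.al_conj g' T.lL u
      rwa [hg'l] at this
    have h3 := G.pl_iso T.lL hjL hjI hjl hu hu'
    have hgdA' : g' * d * g'⁻¹ ∈ A l := by rw [← hal]; exact G.al_mem T.lL _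
    rw [hal] at h3
    rcases G.nd T.lL hgdA' h3 with e | e | e
    · exact hd1 e
    · exact hd1 (by
        have := congrArg (fun x => g'⁻¹ * x * g') e
        simpa [mul_assoc] using this)
    · exact hg'd e.symm
  -- the swap: `Ī_l ≤ Ē_j`
  have hE : ∀ x ∈ I l, al j x = 1 := by
    obtain ⟨h, h1, h2⟩ := G.pl_swap T.lL hjL hjI hjl
    intro x hx
    have h3 : h⁻¹ • x ∈ I j := by
      have := G.I_conj h⁻¹ T.lL hx
      have e : h⁻¹ • l = j := by rw [← h2, inv_smul_smul]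
      rwa [e] at this
    have h4 := G.al_conj h T.lL (h⁻¹ • x)
    rwa [h1, smul_inv_smul, hD _ h3, mul_one, mul_inv_cancel] at h4
  -- `A_l` centralises `A_j`
  have hcen : ∀ a ∈ A l, ∀ b ∈ A j, a * b = b * a := by
    intro a ha b hb
    obtain ⟨m, rfl⟩ := G.al_surj hjL hb
    have h1 := G.al_conj a hjL m
    rw [G.fix T.lL ha hjI] at h1
    have h2 : al j (a • m) = al j m := by
      have e : a • m = (a • m + m) + m := by rw [add_assoc, G.two, add_zero]
      rw [e, G.al_add hjL, hE _ (G.comm T.lL ha m), one_mul]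
    rw [h2] at h1
    nth_rewrite 2 [h1]
    group
  -- `[R_j, A_l] ≤ ⟨j⟩`
  have hRj : ∀ a ∈ A l, ∀ x ∈ RR A j, a • x + x = 0 ∨ a • x + x = j := by
    intro a ha x hx
    induction hx using AddSubgroup.closure_induction with
    | mem x hx =>
      obtain ⟨b₁, hb₁, m, rfl⟩ := hx
      have h1 := (G.al_ker hjL (a • m + m)).1 (hE _ (G.comm T.lL ha m)) b₁ hb₁
      rw [← G.eq_or] at h1
      have e : a • (b₁ • m + m) + (b₁ • m + m) = b₁ • (a • m + m) + (a • m + m) := by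
        rw [smul_add, smul_add, smul_smul, smul_smul, hcen a ha b₁ hb₁]; abel
      rwa [e]
    | zero => left; rw [smul_zero, add_zero]
    | add x y _ _ hx hy =>
      rw [br_add]
      exact G.z_add hx hy
    | neg x _ hx =>
      have e : -x = x := neg_eq_of_add_eq_zero_left (G.two x)
      rw [e]; exact hx
  -- `v' ∈ R_j`
  have hv'R : v' ∈ RR A j := by
    obtain ⟨h, h1, h2⟩ := G.pl_swap T.vL' hjL hjI' hjv
    have := G.RR_conj h T.vL' hjR'
    rwa [h1, h2] at this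
  obtain ⟨a, ha, hav⟩ := T.h'.2
  have h1 : a • v' = v' + l := (G.hy_smul T.lL T.h' ha).resolve_left hav
  rcases hRj a ha v' hv'R with h2 | h2
  · rw [h1, add_comm v' l, add_assoc, G.two, add_zero] at h2
    exact G.ne_zero T.lL h2
  · rw [h1, add_comm v' l, add_assoc, G.two, add_zero] at h2
    exact hjl h2.symm

end two

/-- **Section 2**: `v ~ l`, `v' ~ l`, `φ_v ≠ φ_v'` ⟹ `v ~ v'`. -/
theorem hy (G : Fld L A I al) {l v v' : M} (hl : l ∈ L) (hvL : v ∈ L) (hvL' : v' ∈ L)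
    (hv : Hy A al l v) (hv' : Hy A al l v')
    (hne : ∃ a ∈ A l, ¬ (a • v = v ↔ a • v' = v')) : Hy A al v v' := by
  obtain ⟨c, c', b, b', T⟩ := G.exists_two hl hvL hvL' hv hv' hne
  by_cases hS : al v v' = 1
  · exact G.hy_of hvL hvL' T.bA' (bv_ne G T) hS
  · exact (not_S G T hS).elim

end Fld

end Cfsg.Agent.Omega.NO3S.TwoOne.SG2
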